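import Cfsg.Agent.Lib.RuRankThree.Checks

/-!
# The two suborbits of the model

* `NB`, `FAR`, `cases_pt`, `mem_NB_smul`, `mem_FAR_smul`, `exists_NB`, `exists_FAR` : suborbits
* `orth_zero`, `orth_symm`, `orth_adjTab` : adjacency
* `card_stL_NB`, `card_stL_FAR`, `stL_twenty`, `stL_one` : point stabilisers
* `star` : the common neighbours with the first line
-/

set_option autoImplicit false
set_option maxRecDepth 100000

namespace Cfsg.Agent.RuRankThree

open Cfsg.Agent.StabCert Cfsg.Agent.RuPerm MulAction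

attribute [local irreducible] nbM farM adjTab clP clS clF

/-- The first suborbit. -/
def NB : Finset Pt := msk nbM

/-- The second suborbit. -/
def FAR : Finset Pt := msk farM

theorem card_NB : NB.card = 1755 := by
  have h := counts_ok
  simp only [Bool.and_eq_true, Nat.beq_eq] at h
  rw [NB, card_msk, h.1]

theorem card_FAR : FAR.card = 2304 := by
  have h := counts_ok
  simp only [Bool.and_eq_true, Nat.beq_eq] at h
  rw [FAR, card_msk, h.2]

theorem parts_spec (x : Pt) : (x ∈ FAR ↔ x ≠ pt 0 ∧ x ∉ NB) ∧ (x = pt 0 ↔ x ∉ FAR ∧ x ∉ NB) ∧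
    ∀ k < 4, (gl k x ∈ NB ↔ x ∈ NB) := by
  have h := parts_ok
  simp only [List.all_eq_true, List.mem_range, Bool.and_eq_true, beq_iff_eq] at h
  obtain ⟨⟨h1, h2⟩, h3⟩ := h x.val x.isLt
  have e0 : x = pt 0 ↔ x.val = 0 := ⟨fun e => by rw [e, val_pt (by norm_num)], fun e => by rw [← pt_val x, e]⟩
  refine ⟨?_, ?_, fun k hk => ?_⟩
  · rw [FAR, NB, mem_msk, mem_msk, h1, Ne, e0]
    rcases eq_or_ne x.val 0 with e | e
    · simp [e]
    · simp [e, Bool.eq_false_iff.2 (fun c => e (Nat.eq_of_beq_eq_true c))]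
  · rw [e0, FAR, NB, mem_msk, mem_msk]
    constructor
    · intro e
      rw [e] at h2
      simp only [Nat.beq_refl, Bool.true_eq, Bool.and_eq_true, Bool.not_eq_true'] at h2
      simp [e, h2.1, h2.2]
    · rintro ⟨a, b⟩
      refine Nat.eq_of_beq_eq_true (h2.trans ?_)
      simp [Bool.eq_false_iff.2 a, Bool.eq_false_iff.2 b]
  · have hs := (snd k (by omega) x.val x.isLt)
    have e : gl k x = pt (look 12 (tab.getD k 0) x.val) := by
      have := hs.2; rwa [pt_val] at this
    rw [NB, e, pt_mem_msk hs.1, mem_msk, h3 k hk]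

theorem cases_pt (x : Pt) : x = pt 0 ∨ x ∈ NB ∨ x ∈ FAR := by
  by_cases h1 : x ∈ NB
  · exact Or.inr (Or.inl h1)
  by_cases h2 : x ∈ FAR
  · exact Or.inr (Or.inr h2)
  exact Or.inl ((parts_spec x).2.1.2 ⟨h2, h1⟩)

theorem not_NB_of_FAR {x : Pt} (h : x ∈ FAR) : x ∉ NB := ((parts_spec x).1.1 h).2

theorem zero_not_FAR : pt 0 ∉ FAR := fun h => ((parts_spec _).1.1 h).1 rfl

theorem zero_not_NB : pt 0 ∉ NB := ((parts_spec (pt 0)).2.1.1 rfl).2

theorem L_induction {p : Equiv.Perm Pt → Prop} (h1 : p 1) (hg : ∀ k < 4, p (gl k))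
    (hm : ∀ g h, p g → p h → p (g * h)) {g : Equiv.Perm Pt} (hL : g ∈ L) : p g := by
  rw [L, sub, ← Subgroup.mem_toSubmonoid, Subgroup.closure_toSubmonoid_of_finite] at hL
  induction hL using Submonoid.closure_induction with
  | mem x hx =>
    obtain ⟨k, hk, rfl⟩ := hx
    have hk' : k < 4 := (by decide : ∀ k ∈ levG1.gens, k < 4) k hk
    have := hg k hk'
    rwa [gl, if_pos (by omega)] at this
  | one => exact h1
  | mul x y _ _ hx hy => exact hm x y hx hy

theorem gl_fix_zero : ∀ k < 4, Nat.beq (look 12 (tab.getD k 0) 0) 0 = true := by decide +kernel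

theorem L_fix_zero {g : Equiv.Perm Pt} (hg : g ∈ L) : g (pt 0) = pt 0 :=
  L_induction (p := fun g => g (pt 0) = pt 0) rfl
    (fun k hk => by
      have h := (snd k (by omega) 0 (by norm_num)).2
      rwa [Nat.eq_of_beq_eq_true (gl_fix_zero k hk)] at h)
    (fun g h hg hh => by rw [Equiv.Perm.mul_apply, hh, hg]) hg

theorem mem_NB_smul {g : Equiv.Perm Pt} (hg : g ∈ L) (x : Pt) : g x ∈ NB ↔ x ∈ NB :=
  L_induction (p := fun g => ∀ x, g x ∈ NB ↔ x ∈ NB) (fun _ => Iff.rfl)
    (fun k hk x => (parts_spec x).2.2 k hk) (fun g h hg hh x => (hg _).trans (hh x)) hg x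

theorem mem_FAR_smul {g : Equiv.Perm Pt} (hg : g ∈ L) (x : Pt) : g x ∈ FAR ↔ x ∈ FAR := by
  rw [(parts_spec _).1, (parts_spec x).1, mem_NB_smul hg]
  refine and_congr_left fun _ => not_congr ?_
  conv_lhs => rw [← L_fix_zero hg]
  exact g.injective.eq_iff

theorem exists_of_class {M : ℕ} {r : ℕ} {cl : List Cls}
    (h : (classesOK [[0], [1], [2], [3]] M cl && Nat.beq cl.length 1) = true)
    (hr : ∀ c ∈ cl, c.2.1 = r) {x : Pt} (hx : x ∈ msk M) : ∃ g ∈ L, g (pt r) = x := by
  classical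
  simp only [Bool.and_eq_true] at h
  obtain ⟨h, -⟩ := h
  have hM : x ∈ msk (orAll cl) := by
    have h' := h
    simp only [classesOK, Bool.and_eq_true, Nat.beq_eq] at h'
    rwa [h'.1.2]
  obtain ⟨c, hc, hxc⟩ := mem_orAll.1 hM
  let S : Finset Pt := Finset.univ.filter fun y => ∃ g ∈ L, g (pt r) = y
  have hS : Inv [[0], [1], [2], [3]] S := by
    intro l hl y
    have hm : w l ∈ L := w_mem ((by decide : ∀ l ∈ [[0], [1], [2], [3]], okL l = true) l hl)
    simp only [S, Finset.mem_filter, Finset.mem_univ, true_and]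
    constructor
    · rintro ⟨g, hg, e⟩
      exact ⟨(w l)⁻¹ * g, mul_mem (inv_mem hm) hg, by rw [Equiv.Perm.mul_apply, e]; exact (w l).symm_apply_apply y⟩
    · rintro ⟨g, hg, rfl⟩
      exact ⟨w l * g, mul_mem hm hg, rfl⟩
  have := (class_subset h hS hc hxc).2 (by
    rw [hr c hc]; exact Finset.mem_filter.2 ⟨Finset.mem_univ _, 1, one_mem _, rfl⟩)
  exact (Finset.mem_filter.1 this).2

theorem clNb_root : ∀ c ∈ clNb, c.2.1 = 20 := by decide +kernel

theorem clFar_root : ∀ c ∈ clFar, c.2.1 = 1 := by decide +kernel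

theorem exists_NB {x : Pt} (hx : x ∈ NB) : ∃ g ∈ L, g (pt 20) = x :=
  exists_of_class clNb_ok clNb_root hx

theorem exists_FAR {x : Pt} (hx : x ∈ FAR) : ∃ g ∈ L, g (pt 1) = x :=
  exists_of_class clFar_ok clFar_root hx

theorem twenty_mem : pt 20 ∈ NB := by rw [NB, pt_mem_msk (by norm_num)]; decide +kernel

theorem one_mem_FAR : pt 1 ∈ FAR := by rw [FAR, pt_mem_msk (by norm_num)]; decide +kernel

/-! ### Adjacency -/

theorem orth_symm (x y : Pt) : Orth x y ↔ Orth y x := by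
  have e : ∀ x y : Pt, form (vec x) (vec y) = star (form (vec y) (vec x)) := fun x y => by
    simp [form, mul_comm]
  unfold Orth
  rw [e x y, star_eq_zero]

theorem orth_smul {g : Equiv.Perm Pt} (hg : g ∈ orthGroup) (x y : Pt) : Orth (g x) (g y) ↔ Orth x y :=
  (hg x y).symm

theorem orth_base : form (vec 0) (vec 20) = 0 ∧ form (vec 0) (vec 1) ≠ 0 ∧ form (vec 0) (vec 0) ≠ 0 := by
  decide +kernel

theorem orth_zero (y : Pt) : Orth (pt 0) y ↔ y ∈ NB := by
  obtain ⟨b1, b2, b3⟩ := orth_base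
  have e : ∀ n, n < 4060 → (Orth (pt 0) (pt n) ↔ form (vec 0) (vec n) = 0) := fun n hn => by
    unfold Orth; rw [val_pt (show 0 < 4060 by norm_num), val_pt hn]
  rcases cases_pt y with rfl | hy | hy
  · rw [e 0 (by norm_num)]
    exact iff_of_false b3 zero_not_NB
  · obtain ⟨g, hg, rfl⟩ := exists_NB hy
    conv_lhs => rw [← L_fix_zero hg]
    rw [orth_smul (L_le_rud hg), e 20 (by norm_num)]
    exact iff_of_true b1 hy
  · refine iff_of_false ?_ (not_NB_of_FAR hy)
    obtain ⟨g, hg, rfl⟩ := exists_FAR hy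
    conv => rw [← L_fix_zero hg]
    rw [orth_smul (L_le_rud hg), e 1 (by norm_num)]
    exact b2

theorem mem_imgMask {u : List ℕ} (hu : ok18 u = true) {m : ℕ} {x : Pt} : ∀ n ≤ 4060,
    (x ∈ msk (imgMask u m n) ↔ ∃ i : Pt, i.val < n ∧ i ∈ msk m ∧ w u i = x)
  | 0, _ => by simp [imgMask, mem_msk]
  | n + 1, hn => by
    have ih := mem_imgMask hu (m := m) (x := x) n (by omega)
    rw [imgMask, onNat_eq]
    have key : ∀ i : Pt, i.val < n + 1 ↔ i.val < n ∨ i = pt n := fun i => by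
      constructor
      · intro h
        rcases Nat.lt_succ_iff_lt_or_eq.1 h with h | h
        exacts [Or.inl h, Or.inr (by rw [← pt_val i, h])]
      · rintro (h | rfl)
        · omega
        · rw [val_pt (by omega)]; omega
    have hE := app hu (show n < 4060 by omega)
    split_ifs with hb
    · rw [onNat_eq, msk_or, Finset.mem_union, ih, mem_msk_two_pow]
      constructor
      · rintro (⟨i, h1, h2, h3⟩ | h)
        · exact ⟨i, by omega, h2, h3⟩
        · refine ⟨pt n, by rw [val_pt (by omega)]; omega, (pt_mem_msk (by omega)).2 hb, ?_⟩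
          rw [hE.2, h, pt_val]
      · rintro ⟨i, h1, h2, h3⟩
        rcases (key i).1 h1 with h | rfl
        · exact Or.inl ⟨i, h, h2, h3⟩
        · rw [hE.2] at h3
          exact Or.inr (by rw [← h3, val_pt hE.1])
    · rw [ih]
      constructor
      · rintro ⟨i, h1, h2, h3⟩; exact ⟨i, by omega, h2, h3⟩
      · rintro ⟨i, h1, h2, h3⟩
        rcases (key i).1 h1 with h | rfl
        · exact ⟨i, h, h2, h3⟩
        · exact absurd ((pt_mem_msk (by omega)).1 h2) hb

theorem orth_adjTab {e : ℕ × List ℕ × ℕ} (he : e ∈ adjTab) (y : Pt) :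
    Orth (pt e.1) y ↔ y ∈ msk e.2.2 := by
  have h := adj_ok
  simp only [List.all_eq_true, Bool.and_eq_true, Nat.beq_eq, Nat.blt_eq] at h
  obtain ⟨⟨⟨hu, h0⟩, hlt⟩, himg⟩ := h e he
  set g := w e.2.1 with hg
  have hg0 : g (pt 0) = pt e.1 := by rw [hg, (app hu (by norm_num)).2, h0]
  rw [← hg0, ← g.apply_symm_apply y, orth_smul (w_mem_rud hu), orth_zero, ← himg,
    mem_imgMask hu 4060 le_rfl, g.apply_symm_apply]
  constructor
  · intro hy; exact ⟨g.symm y, (g.symm y).isLt, hy, g.apply_symm_apply y⟩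
  · rintro ⟨i, -, hi, rfl⟩
    show g.symm (g i) ∈ NB
    rw [g.symm_apply_apply]; exact hi

open scoped Classical in
/-- The neighbours in the first suborbit. -/
noncomputable def star' (x : Pt) : Finset Pt := NB.filter fun y => Orth x y

theorem mem_star {x y : Pt} : y ∈ star' x ↔ y ∈ NB ∧ Orth x y := by simp [star']

theorem star_smul {g : Equiv.Perm Pt} (hg : g ∈ L) (x y : Pt) : g y ∈ star' (g x) ↔ y ∈ star' x := by
  rw [mem_star, mem_star, mem_NB_smul hg, orth_smul (L_le_rud hg)]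

theorem star_adjTab {e : ℕ × List ℕ × ℕ} (he : e ∈ adjTab) : star' (pt e.1) = msk (e.2.2 &&& nbM) := by
  ext y
  rw [mem_star, orth_adjTab he]
  simp [NB, mem_msk, Nat.testBit_and, and_comm]

/-! ### Stabilisers -/

/-- The stabiliser of a line in `L`. -/
noncomputable def stL (x : Pt) : Subgroup (Equiv.Perm Pt) := L ⊓ stabilizer (Equiv.Perm Pt) x

theorem mem_stL {x : Pt} {g : Equiv.Perm Pt} : g ∈ stL x ↔ g ∈ L ∧ g x = x := Iff.rfl

theorem card_stab_mul (H : Subgroup (Equiv.Perm Pt)) (x : Pt) :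
    Nat.card ↥(H ⊓ stabilizer (Equiv.Perm Pt) x) * (orbit H x).ncard = Nat.card H := by
  have h := (stabilizer H x).card_mul_index
  rw [index_stabilizer] at h
  rwa [show stabilizer H x = (stabilizer (Equiv.Perm Pt) x).subgroupOf H from rfl,
    ← Subgroup.inf_subgroupOf_left, Nat.card_congr (Subgroup.subgroupOfEquivOfLe inf_le_left).toEquiv] at h

theorem card_stL {O : Finset Pt} {x : Pt} (hO : ∀ y, y ∈ O ↔ ∃ g ∈ L, g x = y) :
    Nat.card (stL x) * O.card = 35942400 := by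
  have e : orbit L x = (O : Set Pt) := by
    ext y
    rw [mem_orbit_iff, Finset.mem_coe, hO]
    exact ⟨fun ⟨g, h⟩ => ⟨g.1, g.2, h⟩, fun ⟨g, hg, h⟩ => ⟨⟨g, hg⟩, h⟩⟩
  have := card_stab_mul L x
  rwa [e, Set.ncard_coe_finset, natCard_stabG] at this

theorem mem_NB_iff (y : Pt) : y ∈ NB ↔ ∃ g ∈ L, g (pt 20) = y :=
  ⟨exists_NB, fun ⟨_, hg, e⟩ => e ▸ (mem_NB_smul hg _).2 twenty_mem⟩

theorem mem_FAR_iff (y : Pt) : y ∈ FAR ↔ ∃ g ∈ L, g (pt 1) = y :=
  ⟨exists_FAR, fun ⟨_, hg, e⟩ => e ▸ (mem_FAR_smul hg _).2 one_mem_FAR⟩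

theorem card_stL_twenty : Nat.card (stL (pt 20)) = 20480 := by
  have := card_stL mem_NB_iff; rw [card_NB] at this; omega

theorem card_stL_one : Nat.card (stL (pt 1)) = 15600 := by
  have := card_stL mem_FAR_iff; rw [card_FAR] at this; omega

theorem stL_twenty : stL (pt 20) = sub gen levG2.gens := by
  have hle : sub gen levG2.gens ≤ stL (pt 20) := by
    refine le_inf (lower_step headG1).1 ?_
    rw [sub, Subgroup.closure_le]
    rintro _ ⟨k, hk, rfl⟩
    have hh : ∀ k ∈ levG2.gens, k < 4 ∧ look 12 (perm.getD k 0) 20 = 20 := by decide +kernel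
    have := (sound k (by have := (hh k hk).1; omega) 20 (by norm_num)).2
    rw [(hh k hk).2] at this
    exact this
  symm
  refine Subgroup.eq_of_le_of_card_ge hle ?_
  rw [card_stL_twenty]
  obtain ⟨-, h2⟩ := lower_step headG2
  obtain ⟨-, h3⟩ := lower_step headG3
  have e : Nat.card (sub gen []) = 1 := by simp [sub]
  change 1024 * _ ≤ _ at h2
  change 20 * _ ≤ _ at h3
  rw [e] at h3
  omega

end Cfsg.Agent.RuRankThree
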