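import Cfsg.Agent.Lib.RuRankThree.CheckDefs
import Cfsg.Agent.Lib.RuRankThree.DataCases

/-!
# Evaluation of the cases
-/

set_option autoImplicit false
set_option maxRecDepth 100000
set_option maxHeartbeats 0
set_option Elab.async false

namespace Cfsg.Agent.RuRankThree

theorem case_ok0 : rowOK 0 cases0 = true := by decide +kernel

theorem case_ok1 : rowOK 1 cases1 = true := by decide +kernel

theorem case_ok2 : rowOK 2 cases2 = true := by decide +kernel

theorem case_ok3 : rowOK 3 cases3 = true := by decide +kernel

theorem case_ok4 : rowOK 4 cases4 = true := by decide +kernel

theorem case_ok5 : rowOK 5 cases5 = true := by decide +kernel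

theorem case_ok6 : rowOK 6 cases6 = true := by decide +kernel

theorem case_ok7 : rowOK 7 cases7 = true := by decide +kernel

theorem case_ok8 : rowOK 8 cases8 = true := by decide +kernel

theorem case_ok9 : rowOK 9 cases9 = true := by decide +kernel

theorem case_ok10 : rowOK 10 cases10 = true := by decide +kernel

theorem case_ok11 : rowOK 11 cases11 = true := by decide +kernel

theorem case_ok12 : rowOK 12 cases12 = true := by decide +kernel

theorem case_ok13 : rowOK 13 cases13 = true := by decide +kernel

theorem case_ok14 : rowOK 14 cases14 = true := by decide +kernel

theorem case_ok15 : rowOK 15 cases15 = true := by decide +kernel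

theorem case_ok16 : rowOK 16 cases16 = true := by decide +kernel

theorem case_ok17 : rowOK 17 cases17 = true := by decide +kernel

theorem case_ok18 : rowOK 18 cases18 = true := by decide +kernel

theorem case_ok19 : rowOK 19 cases19 = true := by decide +kernel

theorem case_ok20 : rowOK 20 cases20 = true := by decide +kernel

theorem case_ok21 : rowOK 21 cases21 = true := by decide +kernel

theorem case_ok22 : rowOK 22 cases22 = true := by decide +kernel

theorem case_ok23 : rowOK 23 cases23 = true := by decide +kernel

theorem case_ok24 : rowOK 24 cases24 = true := by decide +kernel

end Cfsg.Agent.RuRankThree
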