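import Cfsg.Agent.Lib.RuRankThree.Sylow
import Cfsg.Agent.Lib.RuRankThree.ChecksCases

/-!
# Subgroups of order 15600 and their invariant sets

* `exists_star` : an invariant set of 780 neighbours is the neighbourhood of a far line
-/

set_option autoImplicit false
set_option maxRecDepth 100000

namespace Cfsg.Agent.RuRankThree

open Cfsg.Agent.StabCert Cfsg.Agent.RuPerm MulAction

attribute [local irreducible] nbM farM adjTab corb cid cW nW nExp tW gW reps repM treeN

theorem cW_spec : okL cW = true ∧ okL nW = true ∧ w cW ^ 13 = 1 ∧ orderOf (w cW) = 13 ∧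
    w nW * w cW = w cW ^ nExp * w nW := by
  have h := cW_ok
  simp only [Bool.and_eq_true, Bool.not_eq_true'] at h
  obtain ⟨⟨⟨h13, hne⟩, hn⟩, hnok⟩ := h
  obtain ⟨hc, -, hcn⟩ := same_spec hn
  have hcok : okL cW = true := by
    simp only [okL, List.all_append, Bool.and_eq_true] at hc ⊢
    exact hc.2
  have h1 : w cW ^ 13 = 1 := by
    have := (same_spec h13).2.2
    rwa [w_replicate, w_nil] at this
  haveI : Fact (Nat.Prime 13) := ⟨by norm_num⟩
  refine ⟨hcok, hnok, h1, orderOf_eq_prime h1 fun e => ?_, ?_⟩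
  · have h2 := app (okL_18 hcok) (show 20 < 4060 by norm_num)
    rw [e] at h2
    have := congrArg Fin.val h2.2
    rw [val_pt h2.1] at this
    simp only [Equiv.Perm.coe_one, id] at this
    rw [val_pt (by norm_num)] at this
    rw [← this, Nat.beq_refl] at hne
    cases hne
  · rwa [w_append, w_append, w_replicate] at hcn

theorem mem_cyc {u : List ℕ} (hu : ok18 u = true) {x : Pt} : ∀ (n r : ℕ), r < 4060 →
    x ∈ msk (cyc u n r) → ∃ i, (w u ^ i) (pt r) = x
  | 0, r, _, h => by simp [cyc, mem_msk] at h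
  | n + 1, r, hr, h => by
    have hE := app hu hr
    rw [cyc, onNat_eq, msk_or, Finset.mem_union, mem_msk_two_pow] at h
    rcases h with h | h
    · exact ⟨0, by rw [h, pt_val]; rfl⟩
    · obtain ⟨i, hi⟩ := mem_cyc hu n _ hE.1 h
      exact ⟨i + 1, by rw [pow_succ, Equiv.Perm.mul_apply, hE.2, hi]⟩

theorem inv_pow {g : Equiv.Perm Pt} {S : Finset Pt} (h : ∀ x, g x ∈ S ↔ x ∈ S) :
    ∀ (i : ℕ) (x : Pt), (g ^ i) x ∈ S ↔ x ∈ S
  | 0, _ => Iff.rfl
  | i + 1, x => by rw [pow_succ, Equiv.Perm.mul_apply, inv_pow h i, h]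

theorem card_cyc {u : List ℕ} : ∀ (n r : ℕ), cycOK u n r = true → (msk (cyc u n r)).card = n
  | 0, _, _ => by simp [cyc, msk]
  | n + 1, r, h => by
    rw [cycOK, onNat_eq, Bool.and_eq_true, Bool.and_eq_true, Bool.not_eq_true', Nat.blt_eq] at h
    obtain ⟨⟨hr, hnot⟩, hrec⟩ := h
    rw [cyc, onNat_eq, msk_or, Finset.card_union_of_disjoint, card_cyc n _ hrec,
      show msk (2 ^ r) = {pt r} by
        ext x
        rw [mem_msk_two_pow, Finset.mem_singleton]
        exact ⟨fun e => by rw [e, pt_val], fun e => by rw [e, val_pt hr]⟩]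
    · simp [add_comm]
    · rw [Finset.disjoint_left]
      intro x hx hx'
      rw [mem_msk_two_pow] at hx
      rw [mem_msk, ← hx, hnot] at hx'
      cases hx'

/-- An orbit of the element of order thirteen. -/
theorem corb_spec {j : ℕ} {y : Pt} (hy : y ∈ msk (corb.getD j (0, 0)).2) :
    (msk (corb.getD j (0, 0)).2).card = 13 ∧ msk (corb.getD j (0, 0)).2 ⊆ NB ∧
      ∀ S : Finset Pt, (∀ x, w cW x ∈ S ↔ x ∈ S) → y ∈ S → msk (corb.getD j (0, 0)).2 ⊆ S := by
  by_cases hj : j < corb.length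
  · have h := corb_ok
    simp only [List.all_eq_true, Bool.and_eq_true, Nat.beq_eq, Nat.blt_eq] at h
    have hm : corb.getD j (0, 0) ∈ corb := by rw [List.getD_eq_getElem _ _ hj]; exact List.getElem_mem _
    obtain ⟨⟨⟨hr, hcyc⟩, hcnt⟩, hnb⟩ := h _ hm
    refine ⟨by rw [← hcyc, card_cyc _ _ hcnt], fun x hx => ?_, fun S hS hyS x hx => ?_⟩
    · rw [← hnb, mem_msk, Nat.testBit_and, Bool.and_eq_true] at hx
      exact mem_msk.2 hx.2
    · obtain ⟨hc, -⟩ := cW_spec
      rw [← hcyc] at hy hx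
      obtain ⟨i, hi⟩ := mem_cyc (okL_18 hc) _ _ hr hy
      obtain ⟨i', hi'⟩ := mem_cyc (okL_18 hc) _ _ hr hx
      rw [← hi'] ; rw [← hi] at hyS
      exact (inv_pow hS _ _).2 ((inv_pow hS _ _).1 hyS)
  · rw [List.getD_eq_default _ _ (by omega)] at hy
    simp [mem_msk] at hy

/-- The state of merging: a mask and its size, inside an invariant set. -/
def Good (S : Finset Pt) (st : ℕ) : Prop :=
  msk (st / 4096) ⊆ S ∩ NB ∧ (msk (st / 4096)).card = st % 4096

theorem step2_good {xa xb : List ℕ} (ha : ok18 xa = true) (hb : ok18 xb = true) {S : Finset Pt}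
    (hc : ∀ x, w cW x ∈ S ↔ x ∈ S) (hxa : ∀ x, w xa x ∈ S ↔ x ∈ S) (hxb : ∀ x, w xb x ∈ S ↔ x ∈ S)
    (e st : ℕ) (h : Good S st) : Good S (step2 xa xb e st) := by
  classical
  unfold step2
  set u := if Nat.beq (e % 2) 0 then xa else xb with hu
  have hu18 : ok18 u = true := by rw [hu]; split_ifs <;> assumption
  have huS : ∀ x, w u x ∈ S ↔ x ∈ S := by rw [hu]; split_ifs <;> assumption
  rw [onNat_eq, onNat_eq]
  split_ifs with hcond
  · simp only [Bool.and_eq_true, Nat.blt_eq, Nat.beq_eq] at hcond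
    obtain ⟨⟨⟨hp, hpm⟩, hy⟩, hdisj⟩ := hcond
    set y := E u (e / 2)
    set M := (corb.getD (look 8 cid y) (0, 0)).2
    have hE := app hu18 hp
    have hyM : pt y ∈ msk M := (pt_mem_msk hE.1).2 hy
    obtain ⟨hMc, hMN, hMS⟩ := corb_spec hyM
    have hpS : pt (e / 2) ∈ S := (Finset.mem_inter.1 (h.1 ((pt_mem_msk hp).2 hpm))).1
    have hyS : pt y ∈ S := hE.2 ▸ (huS _).2 hpS
    rw [onNat_eq]
    have hdis : Disjoint (msk (st / 4096)) (msk M) := Finset.disjoint_left.2 fun x hx hx' => by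
      have : (M &&& st / 4096).testBit x.val = true := by
        rw [Nat.testBit_and, mem_msk.1 hx, mem_msk.1 hx']; rfl
      rw [hdisj] at this; simp at this
    have hcard : (msk (st / 4096 ||| M)).card = st % 4096 + 13 := by
      rw [msk_or, Finset.card_union_of_disjoint hdis, h.2, hMc]
    have hle : st % 4096 + 13 < 4096 := by
      have := Finset.card_le_univ (msk (st / 4096 ||| M))
      rw [hcard, Fintype.card_fin] at this
      omega
    have e1 : ((st / 4096 ||| M) * 4096 + (st % 4096 + 13) % 4096) / 4096 = st / 4096 ||| M := by omega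
    have e2 : ((st / 4096 ||| M) * 4096 + (st % 4096 + 13) % 4096) % 4096 = st % 4096 + 13 := by omega
    refine ⟨?_, ?_⟩
    · rw [e1, msk_or]
      exact Finset.union_subset h.1 (Finset.subset_inter (hMS S hc hyS) hMN)
    · rw [e1, e2, hcard]
  · exact h

theorem grow2_good {xa xb : List ℕ} (ha : ok18 xa = true) (hb : ok18 xb = true) {S : Finset Pt}
    (hc : ∀ x, w cW x ∈ S ↔ x ∈ S) (hxa : ∀ x, w xa x ∈ S ↔ x ∈ S) (hxb : ∀ x, w xb x ∈ S ↔ x ∈ S)
    (T : ℕ) : ∀ (n i st : ℕ), Good S st → Good S (grow2 xa xb T n i st)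
  | 0, _, _, h => h
  | n + 1, i, st, h => by
    rw [grow2, onNat_eq]
    exact grow2_good ha hb hc hxa hxb T n (i + 1) _ (step2_good ha hb hc hxa hxb _ _ h)

theorem case_sound {g t : List ℕ} (hgo : okL g = true) (hto : okL t = true)
    {e : List ℕ × List ℕ × ℕ × ℕ × ℕ} (h : caseOK g t e = true) {X : Finset Pt} (hX : X ⊆ NB)
    (h780 : X.card = 780) (hc : ∀ x, w cW x ∈ X ↔ x ∈ X)
    (ha : ∀ x, (w g * (w t * w aW * (w t)⁻¹) * (w g)⁻¹) x ∈ X ↔ x ∈ X)
    (hb : ∀ x, (w g * (w t * w bW * (w t)⁻¹) * (w g)⁻¹) x ∈ X ↔ x ∈ X) :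
    ∃ z ∈ FAR, X = star' z := by
  classical
  simp only [caseOK, onNat_eq, Bool.and_eq_true, Nat.blt_eq, Bool.or_eq_true, Nat.beq_eq,
    List.any_eq_true] at h
  obtain ⟨⟨⟨⟨hsa, hsb⟩, hr⟩, hrN⟩, ⟨hrM, -⟩, hfin⟩ := h
  have hgt : ok18 (g ++ t) = true := by
    simp only [ok18, List.all_append, Bool.and_eq_true]; exact ⟨okL_18 hgo, okL_18 hto⟩
  have hw : ∀ v, w (g ++ t ++ v ++ winv (g ++ t)) = w g * (w t * w v * (w t)⁻¹) * (w g)⁻¹ := fun v => by
    rw [w_append, w_winv hgt]
    simp only [w_append]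
    group
  obtain ⟨ha1, -, hae⟩ := same_spec hsa
  obtain ⟨hb1, -, hbe⟩ := same_spec hsb
  rw [hw] at hae hbe
  set root := e.2.2.1
  set M := (corb.getD (look 8 cid root) (0, 0)).2
  obtain ⟨hMc, hMN, hMS⟩ := corb_spec ((pt_mem_msk hr).2 hrM : pt root ∈ msk M)
  set st := grow2 e.1 e.2.1 e.2.2.2.2 e.2.2.2.1 0 (M * 4096 + 13) with hst
  have key : ∀ S : Finset Pt, (∀ x, w cW x ∈ S ↔ x ∈ S) → (∀ x, w e.1 x ∈ S ↔ x ∈ S) →
      (∀ x, w e.2.1 x ∈ S ↔ x ∈ S) → pt root ∈ S → Good S st := fun S h1 h2 h3 h4 => by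
    refine grow2_good (okL_18 ha1) (okL_18 hb1) h1 h2 h3 _ _ _ _ ⟨?_, ?_⟩
    · rw [show (M * 4096 + 13) / 4096 = M by omega]
      exact Finset.subset_inter (hMS S h1 h4) hMN
    · rw [show (M * 4096 + 13) / 4096 = M by omega, show (M * 4096 + 13) % 4096 = 13 by omega, hMc]
  rw [← hae] at ha
  rw [← hbe] at hb
  by_cases hroot : pt root ∈ X
  · exfalso
    obtain ⟨h1, h2⟩ := key X hc ha hb hroot
    have := (Finset.card_le_card (h1.trans Finset.inter_subset_left))
    rw [h2, h780] at this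
    rcases hfin with h' | h' <;> omega
  · have hcom : ∀ f : Equiv.Perm Pt, (∀ x, f x ∈ X ↔ x ∈ X) → ∀ x, f x ∈ Xᶜ ↔ x ∈ Xᶜ :=
      fun f hf x => by simp [hf x]
    obtain ⟨h1, h2⟩ := key Xᶜ (hcom _ hc) (hcom _ ha) (hcom _ hb) (Finset.mem_compl.2 hroot)
    have h975 : (Xᶜ ∩ NB).card = 975 := by
      rw [show Xᶜ ∩ NB = NB \ X by ext; simp [and_comm], Finset.card_sdiff_of_subset hX, card_NB, h780]
    have hle := Finset.card_le_card h1
    rw [h2, h975] at hle
    rcases hfin with h' | ⟨h', s, hs, hse⟩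
    · omega
    have heq := Finset.eq_of_subset_of_card_le h1 (by rw [h2, h975, h'])
    simp only [starTab, List.mem_map] at hs
    obtain ⟨a, ha', rfl⟩ := hs
    have hz : farM.testBit a.1 = true := by
      have := adj_heads
      simp only [Bool.and_eq_true, List.all_eq_true] at this
      exact this.1.2 a ha'
    have hlt : a.1 < 4060 := by
      have := adj_ok
      simp only [List.all_eq_true, Bool.and_eq_true, Nat.blt_eq] at this
      exact (this a (List.mem_of_mem_drop ha')).1.2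
    refine ⟨pt a.1, (pt_mem_msk hlt).2 hz, ?_⟩
    rw [star_adjTab (List.mem_of_mem_drop ha'), ← hse]
    ext x
    have hx : x ∈ msk (st / 4096) ↔ x ∉ X ∧ x ∈ NB := by
      rw [heq, Finset.mem_inter, Finset.mem_compl]
    rw [mem_msk, Nat.testBit_xor]
    rw [mem_msk, NB, mem_msk] at hx
    constructor
    · intro hxX
      have h1 : nbM.testBit x.val = true := by have := hX hxX; rwa [NB, mem_msk] at this
      have h2 : (st / 4096).testBit x.val = false := Bool.eq_false_iff.2 fun h => (hx.1 h).1 hxX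
      simp [h1, h2]
    · intro hb'
      by_contra hxX
      cases h1 : nbM.testBit x.val
      · rw [h1] at hb'
        simp only [Bool.false_bne] at hb'
        have := (hx.1 hb').2
        rw [h1] at this; cases this
      · rw [h1, (hx.2 ⟨hxX, h1⟩ : (st / 4096).testBit x.val = true)] at hb'
        simp at hb'

theorem row_ok {j : ℕ} (hj : j < 25) : rowOK j (caseTab.getD j []) = true := by
  interval_cases j <;> first
    | exact case_ok0 | exact case_ok1 | exact case_ok2 | exact case_ok3 | exact case_ok4 | exact case_ok5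
    | exact case_ok6 | exact case_ok7 | exact case_ok8 | exact case_ok9 | exact case_ok10 | exact case_ok11
    | exact case_ok12 | exact case_ok13 | exact case_ok14 | exact case_ok15 | exact case_ok16
    | exact case_ok17 | exact case_ok18 | exact case_ok19 | exact case_ok20 | exact case_ok21
    | exact case_ok22 | exact case_ok23 | exact case_ok24

/-- The conclusion for the far line `z`. -/
def Q (z : Pt) : Prop :=
  ∀ P : Subgroup (Equiv.Perm Pt), P ≤ L → Nat.card P = 25 → (∀ g ∈ P, g z = z) →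
    ∀ X : Finset Pt, X ⊆ NB → X.card = 780 → (∀ x, w cW x ∈ X ↔ x ∈ X) →
      (∀ g ∈ P, ∀ x, g x ∈ X ↔ x ∈ X) → ∃ z' ∈ FAR, X = star' z'

theorem Q_rep {j : ℕ} (hj : j < 25) : Q (pt (reps.getD j 0)) := by
  intro P hP hc hfix X hX h780 hcX hPX
  have hr := reps_ok
  simp only [Bool.and_eq_true, List.all_eq_true, List.mem_range, Nat.beq_eq, decide_eq_true_eq] at hr
  obtain ⟨hgo, hg1⟩ := hr.2 j hj
  set g := w (gW.getD j []) with hgdef
  have hg : g ∈ L := w_mem hgo
  have hgz : g (pt 1) = pt (reps.getD j 0) := by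
    rw [hgdef, (app (okL_18 hgo) (by norm_num)).2, hg1]
  set P' := P.map (MulAut.conj g⁻¹).toMonoidHom
  have hP' : P' ≤ stL (pt 1) := by
    rintro _ ⟨x, hx, rfl⟩
    refine ⟨?_, ?_⟩
    · show g⁻¹ * x * g⁻¹⁻¹ ∈ L
      rw [inv_inv]
      exact mul_mem (mul_mem (inv_mem hg) (hP hx)) hg
    · show (g⁻¹ * x * g⁻¹⁻¹) (pt 1) = pt 1
      rw [inv_inv, Equiv.Perm.mul_apply, Equiv.Perm.mul_apply, hgz, hfix x hx, ← hgz]
      exact g.symm_apply_apply _
  have hc' : Nat.card P' = 25 := by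
    rw [Subgroup.card_map_of_injective (MulAut.conj g⁻¹).injective, hc]
  obtain ⟨i, hi, ⟨a, haP, hae⟩, ⟨b, hbP, hbe⟩⟩ := exists_conjugator hP' hc'
  have hrow := row_ok hj
  simp only [rowOK, Bool.and_eq_true, List.all_eq_true, List.mem_range] at hrow
  simp only [MulEquiv.coe_toMonoidHom, MulAut.conj_apply, inv_inv] at hae hbe
  refine case_sound hgo (tW_ok i) (hrow.2 i hi) hX h780 hcX ?_ ?_
  · rw [← hae]
    have e : g * (g⁻¹ * a * g) * g⁻¹ = a := by group
    rw [e]; exact hPX a haP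
  · rw [← hbe]
    have e : g * (g⁻¹ * b * g) * g⁻¹ = b := by group
    rw [e]; exact hPX b hbP

theorem Q_smul {n : Equiv.Perm Pt} (hn : n ∈ L) (k : ℕ) (hnc : n * w cW = w cW ^ k * n) {z : Pt} (h : Q z) :
    Q (n z) := by
  classical
  intro P hP hc hfix X hX h780 hcX hPX
  set X' : Finset Pt := Finset.univ.filter fun x => n x ∈ X with hX'
  have hmem : ∀ x, x ∈ X' ↔ n x ∈ X := fun x => by simp [hX']
  obtain ⟨z', hz', he⟩ := h (P.map (MulAut.conj n⁻¹).toMonoidHom) (by
      rintro _ ⟨x, hx, rfl⟩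
      simp only [MulEquiv.coe_toMonoidHom, MulAut.conj_apply, inv_inv]
      exact mul_mem (mul_mem (inv_mem hn) (hP hx)) hn)
    (by rw [Subgroup.card_map_of_injective (MulAut.conj n⁻¹).injective, hc])
    (by
      rintro _ ⟨x, hx, rfl⟩
      simp only [MulEquiv.coe_toMonoidHom, MulAut.conj_apply, inv_inv, Equiv.Perm.mul_apply]
      rw [hfix x hx]; exact n.symm_apply_apply z)
    X' (fun x hx => (mem_NB_smul hn x).1 (hX ((hmem x).1 hx)))
    (by
      rw [← h780]
      exact Finset.card_bij (fun x _ => n x) (fun x hx => (hmem x).1 hx) (fun _ _ _ _ e => n.injective e)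
        fun y hy => ⟨n.symm y, (hmem _).2 (by rwa [n.apply_symm_apply]), n.apply_symm_apply y⟩)
    (fun x => by
      rw [hmem, hmem, show n (w cW x) = (w cW ^ k) (n x) from Equiv.Perm.congr_fun hnc x]
      exact inv_pow hcX k (n x))
    (by
      rintro _ ⟨y, hy, rfl⟩ x
      rw [hmem, hmem]
      simp only [MulEquiv.coe_toMonoidHom, MulAut.conj_apply, inv_inv, Equiv.Perm.mul_apply]
      rw [show n (n⁻¹ (y (n x))) = y (n x) from n.apply_symm_apply _]
      exact hPX y hy (n x))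
  refine ⟨n z', (mem_FAR_smul hn z').2 hz', ?_⟩
  ext x
  rw [← n.apply_symm_apply x, star_smul hn, ← hmem, he]

theorem Q_all {z : Pt} (hz : z ∈ FAR) : Q z := by
  obtain ⟨hc, hno, h13, -, hnc⟩ := cW_spec
  rw [FAR, ← Nat.eq_of_beq_eq_true treeN_ok] at hz
  refine grow_subset (S := {z | Q z}) (ws := [cW, nW]) (by simp [okL_18 hc, okL_18 hno]) ?_ _ _ _ _ ?_ z hz
  · intro l hl x hx
    simp only [List.mem_cons, List.not_mem_nil, or_false] at hl
    rcases hl with rfl | rfl
    · exact Q_smul (w_mem hc) 1 (by rw [pow_one]) hx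
    · exact Q_smul (w_mem hno) nExp hnc hx
  · intro x hx
    have hr := reps_ok
    simp only [Bool.and_eq_true, List.all_eq_true, List.mem_range, Bool.or_eq_true, Bool.not_eq_true',
      List.contains_iff_mem, Nat.beq_eq] at hr
    rcases hr.1.1 x.val x.isLt with h | h
    · rw [mem_msk, h] at hx; cases hx
    obtain ⟨j, hj, he⟩ := List.mem_iff_getElem.1 h
    have := Q_rep (j := j) (by rw [← hr.1.2]; exact hj)
    rwa [List.getD_eq_getElem _ _ hj, he, pt_val] at this

/-- An invariant set of 780 neighbours is the neighbourhood of a far line. -/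
theorem exists_star {H : Subgroup (Equiv.Perm Pt)} (hH : H ≤ L) (hc : Nat.card H = 15600) {X : Finset Pt}
    (hX : X ⊆ NB) (h780 : X.card = 780) (hinv : ∀ g ∈ H, ∀ x, g x ∈ X ↔ x ∈ X) :
    ∃ z ∈ FAR, X = star' z := by
  classical
  haveI : Fact (Nat.Prime 13) := ⟨by norm_num⟩
  haveI : Fact (Nat.Prime 5) := ⟨by norm_num⟩
  obtain ⟨hco, -, -, hord, -⟩ := cW_spec
  obtain ⟨C, hC⟩ := Sylow.exists_subgroup_card_pow_prime (G := H) 13 (n := 1) (by rw [hc]; norm_num)
  obtain ⟨P, hP⟩ := Sylow.exists_subgroup_card_pow_prime (G := H) 5 (n := 2) (by rw [hc]; norm_num)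
  have hf : (Nat.card L).factorization 13 = 1 := by
    rw [natCard_stabG, show (35942400 : ℕ) = 13 ^ 1 * 2764800 by norm_num,
      Nat.factorization_mul_apply_of_coprime (by norm_num), Nat.Prime.factorization_pow (by norm_num),
      Nat.factorization_eq_zero_of_not_dvd (show ¬ 13 ∣ 2764800 by norm_num)]
    simp
  have h0 : Nat.card (Subgroup.zpowers (⟨w cW, w_mem hco⟩ : L)) = 13 ^ (Nat.card L).factorization 13 := by
    rw [hf, Nat.card_zpowers, ← Subgroup.orderOf_coe, hord, pow_one]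
  have h1 : Nat.card ((C.map H.subtype).subgroupOf L) = 13 ^ (Nat.card L).factorization 13 := by
    rw [hf, Nat.card_congr (Subgroup.subgroupOfEquivOfLe ((Subgroup.map_subtype_le C).trans hH)).toEquiv,
      Subgroup.card_map_of_injective H.subtype_injective, hC]
  obtain ⟨l, hl⟩ := MulAction.exists_smul_eq L (Sylow.ofCard _ h0) (Sylow.ofCard _ h1)
  have hlc : l.1 * w cW * l.1⁻¹ ∈ H := by
    have e : (Sylow.ofCard _ h0).map (MulAut.conj l).toMonoidHom = (Sylow.ofCard _ h1 : Subgroup L) := by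
      rw [← hl]; rfl
    have hm : MulAut.conj l ⟨w cW, w_mem hco⟩ ∈ (C.map H.subtype).subgroupOf L :=
      e.le ⟨_, Subgroup.mem_zpowers _, rfl⟩
    exact Subgroup.map_subtype_le C hm
  set P1 := (P.map H.subtype).map (MulAut.conj l.1⁻¹).toMonoidHom with hP1
  have hP1L : P1 ≤ L := by
    rintro _ ⟨x, hx, rfl⟩
    simp only [MulEquiv.coe_toMonoidHom, MulAut.conj_apply, inv_inv]
    exact mul_mem (mul_mem (inv_mem l.2) (hH (Subgroup.map_subtype_le P hx))) l.2
  have hP1c : Nat.card P1 = 25 := by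
    rw [hP1, Subgroup.card_map_of_injective (MulAut.conj l.1⁻¹).injective,
      Subgroup.card_map_of_injective H.subtype_injective, hP]
    norm_num
  -- a fixed far line
  have hfix : ∃ z ∈ FAR, ∀ g ∈ P1, g z = z := by
    letI : MulAction P1 {x : Pt // x ∈ FAR} :=
      { smul := fun g x => ⟨g.1 x.1, (mem_FAR_smul (hP1L g.2) _).2 x.2⟩
        one_smul := fun x => Subtype.ext rfl
        mul_smul := fun g h x => Subtype.ext rfl }
    have hp : IsPGroup 5 P1 := IsPGroup.of_card (n := 2) (by rw [hP1c]; norm_num)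
    have hne : ¬ 5 ∣ Nat.card {x : Pt // x ∈ FAR} := by
      rw [Nat.card_eq_fintype_card, Fintype.card_coe, card_FAR]; norm_num
    obtain ⟨z, hz⟩ := hp.nonempty_fixed_point_of_prime_not_dvd_card _ hne
    exact ⟨z.1, z.2, fun g hg => congrArg Subtype.val (hz ⟨g, hg⟩)⟩
  obtain ⟨z, hz, hzfix⟩ := hfix
  set X' : Finset Pt := Finset.univ.filter fun x => l.1 x ∈ X with hX'
  have hmem : ∀ x, x ∈ X' ↔ l.1 x ∈ X := fun x => by simp [hX']
  obtain ⟨z', hz', he⟩ := Q_all hz P1 hP1L hP1c hzfix X' (fun x hx => (mem_NB_smul l.2 x).1 (hX ((hmem x).1 hx)))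
    (by
      rw [← h780]
      exact Finset.card_bij (fun x _ => l.1 x) (fun x hx => (hmem x).1 hx) (fun _ _ _ _ e => l.1.injective e)
        fun y hy => ⟨l.1.symm y, (hmem _).2 (by rwa [Equiv.apply_symm_apply]), Equiv.apply_symm_apply _ _⟩)
    (fun x => by
      rw [hmem, hmem]
      have := hinv _ hlc (l.1 x)
      rwa [Equiv.Perm.mul_apply, Equiv.Perm.mul_apply, show l.1⁻¹ (l.1 x) = x from l.1.symm_apply_apply x] at this)
    (by
      rintro _ ⟨y, hy, rfl⟩ x
      rw [hmem, hmem]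
      simp only [MulEquiv.coe_toMonoidHom, MulAut.conj_apply, inv_inv, Equiv.Perm.mul_apply]
      rw [show l.1 (l.1⁻¹ (y (l.1 x))) = y (l.1 x) from l.1.apply_symm_apply _]
      exact hinv y (Subgroup.map_subtype_le P hy) (l.1 x))
  refine ⟨l.1 z', (mem_FAR_smul l.2 z').2 hz', ?_⟩
  ext x
  rw [← l.1.apply_symm_apply x, star_smul l.2, ← hmem, he]

end Cfsg.Agent.RuRankThree
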