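import Cfsg.Agent.Lib.RuRankThree.Data

/-!
# Checks for the recognition of the Rudvalis group

* `imgMask`, `cyc`, `grow2`, `caseOK` : images of masks, orbits, merging of orbits, one case
-/

set_option autoImplicit false

namespace Cfsg.Agent.RuRankThree

open Cfsg.Agent.StabCert Cfsg.Agent.RuPerm

/-- The image of a mask under a word, below `n`. -/
def imgMask (u : List ℕ) (m : ℕ) : ℕ → ℕ
  | 0 => 0
  | n + 1 => onNat (imgMask u m n) fun r =>
    if m.testBit n then onNat (E u n) fun y => r ||| 2 ^ y else r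

/-- The first `n` points of an orbit. -/
def cyc (u : List ℕ) : ℕ → ℕ → ℕ
  | 0, _ => 0
  | n + 1, r => onNat (E u r) fun y => 2 ^ r ||| cyc u n y

/-- The first `n` points of an orbit are distinct. -/
def cycOK (u : List ℕ) : ℕ → ℕ → Bool
  | 0, _ => true
  | n + 1, r => onNat (E u r) fun y => Nat.blt r 4060 && !(cyc u n y).testBit r && cycOK u n y

/-- One merging step; the state is a mask and a size. -/
def step2 (xa xb : List ℕ) (e st : ℕ) : ℕ :=
  onNat (E (if Nat.beq (e % 2) 0 then xa else xb) (e / 2)) fun y =>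
    onNat (corb.getD (look 8 cid y) (0, 0)).2 fun M =>
      if Nat.blt (e / 2) 4060 && (st / 4096).testBit (e / 2) && M.testBit y &&
          Nat.beq (M &&& (st / 4096)) 0 then
        onNat ((st / 4096) ||| M) fun m => m * 4096 + (st % 4096 + 13) % 4096
      else st

/-- Repeated merging. -/
def grow2 (xa xb : List ℕ) (T : ℕ) : ℕ → ℕ → ℕ → ℕ
  | 0, _, st => st
  | n + 1, i, st => onNat (step2 xa xb (look 16 T i) st) fun st' => grow2 xa xb T n (i + 1) st'

/-- The masks of the neighbourhoods of the far lines fixed by `cW`. -/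
def starTab : List ℕ := (adjTab.drop 1).map fun e => e.2.2 &&& nbM

/-- One case. -/
def caseOK (g t : List ℕ) (e : List ℕ × List ℕ × ℕ × ℕ × ℕ) : Bool :=
  same e.1 (g ++ t ++ aW ++ winv (g ++ t)) && same e.2.1 (g ++ t ++ bW ++ winv (g ++ t)) &&
    Nat.blt e.2.2.1 4060 && nbM.testBit e.2.2.1 &&
    onNat (corb.getD (look 8 cid e.2.2.1) (0, 0)).2 fun M => M.testBit e.2.2.1 &&
      Nat.blt e.2.2.2.1 100 &&
      onNat (grow2 e.1 e.2.1 e.2.2.2.2 e.2.2.2.1 0 (M * 4096 + 13)) fun st =>
        Nat.blt 975 (st % 4096) || (Nat.beq (st % 4096) 975 &&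
          starTab.any fun s => Nat.beq (nbM ^^^ (st / 4096)) s)

/-- All cases over one representative. -/
def rowOK (j : ℕ) (row : List (List ℕ × List ℕ × ℕ × ℕ × ℕ)) : Bool :=
  Nat.beq row.length 26 && (List.range 26).all fun i =>
    caseOK (gW.getD j []) (tW.getD i []) (row.getD i ([], [], 0, 0, 0))

/-- A word in words. -/
def expW (ws : List (List ℕ)) (l : List ℕ) : List ℕ := l.flatMap fun s => ws.getD s []

end Cfsg.Agent.RuRankThree
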