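import Cfsg.Agent.Lib.RuRankThree.CheckDefs

/-!
# Evaluation of the certificates
-/

set_option autoImplicit false
set_option maxRecDepth 100000
set_option maxHeartbeats 0
set_option Elab.async false

namespace Cfsg.Agent.RuRankThree

open Cfsg.Agent.StabCert Cfsg.Agent.RuPerm

theorem parts_ok : ((List.range 4060).all fun i =>
    (farM.testBit i == (!Nat.beq i 0 && !nbM.testBit i)) && (Nat.beq i 0 == (!farM.testBit i && !nbM.testBit i)) &&
      (List.range 4).all fun k => nbM.testBit (look 12 (tab.getD k 0) i) == nbM.testBit i) = true := by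
  decide +kernel

theorem counts_ok : (Nat.beq (count nbM) 1755 && Nat.beq (count farM) 2304) = true := by decide +kernel

theorem clNb_ok : (classesOK [[0], [1], [2], [3]] nbM clNb && Nat.beq clNb.length 1) = true := by
  decide +kernel

theorem clFar_ok : (classesOK [[0], [1], [2], [3]] farM clFar && Nat.beq clFar.length 1) = true := by
  decide +kernel

theorem clP_ok : (sizedOK [[0], [1], [2]] (nbM ^^^ 2 ^ 20) clPn && clPn.sublists.all fun sel =>
    (fun m c => !Nat.beq (1755 * (1754 - c) % 2304) 0 || Nat.beq c 1754 ||
      (Nat.beq c 730 && Nat.beq m ((adjTab.getD 0 (0, [], 0)).2.2 &&& nbM)))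
        (orAll (sel.map Prod.fst)) (sel.map Prod.snd).sum) = true := by
  decide +kernel

theorem clS_ok : (sizedOK sTwo nbM clSn && clSn.sublists.all fun sel =>
    (fun m c => !m.testBit 20 || !Nat.beq c 5)
      (orAll (sel.map Prod.fst)) (sel.map Prod.snd).sum) = true := by decide +kernel

theorem sTwo_ok : ((sTwo.all fun l => (l.all fun k => [0, 1, 2].contains k) && Nat.beq (E l 20) 20) &&
    Nat.beq (count pairM) 2 &&
    ((List.range 4060).all fun i => (sTwo.all fun l => pairM.testBit (E l i) == pairM.testBit i) &&
      (!pairM.testBit i || tenM.testBit i) &&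
      ([0, 1, 2].all fun k => tenM.testBit (E [k] i) == tenM.testBit i) &&
      (!tenM.testBit i || !Nat.beq (E eFive i) i))) = true := by decide +kernel

theorem eFive_ok : (same (List.replicate 5 eFive).flatten [] && Nat.beq (E eFive 20) 20 &&
    okL eFive) = true := by decide +kernel

theorem clF_ok : (sizedOK kGens farM clFn && clFn.sublists.all fun sel =>
    (fun m c => (!m.testBit 1 || !Nat.beq (2304 % c) 0 || Nat.beq m 2 || Nat.beq m farM) &&
      (m.testBit 1 || !Nat.beq c 975 || Nat.beq m ((adjTab.getD 1 (0, [], 0)).2.2 &&& farM)))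
        (orAll (sel.map Prod.fst)) (sel.map Prod.snd).sum) = true := by
  decide +kernel

theorem kGens_ok : ((kGens.all fun l => okL l && Nat.beq (E l 1) 1) &&
    (clK.all fun c => Nat.beq c.2.1 rootK && Nat.beq (count c.1) 975) &&
    classesOK kGens (orAll clK) clK && Nat.beq clK.length 1 &&
    (kFix.all fun l => (l.all fun s => Nat.blt s 2) && Nat.beq (E (expW kGens l) rootK) rootK) &&
    decide (kFix.map fun l => detPts.map (E (expW kGens l))).Nodup && Nat.beq kFix.length 16) = true := by
  decide +kernel

theorem ab_ok : (same (aW ++ bW) (bW ++ aW) && same (List.replicate 5 aW).flatten [] &&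
    same (List.replicate 5 bW).flatten [] && Nat.beq (E aW 1) 1 && Nat.beq (E bW 1) 1 &&
    decide (((List.range 25).map fun i => detPts.map
      (E ((List.replicate (i / 5) aW).flatten ++ (List.replicate (i % 5) bW).flatten)))).Nodup &&
    Nat.beq tW.length 26 && (tW.all okL) && Nat.beq tCert.length 2 && (tW.getD 0 [5]).isEmpty) = true := by
  decide +kernel

theorem tCert_ok : ((List.range 2).all fun k => (List.range 26).all fun i =>
    let e := (tCert.getD k []).getD i (0, (0, 0), (0, 0))
    let v := kGens.getD k [] ++ tW.getD i []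
    Nat.blt e.1 26 &&
    same (tW.getD e.1 [] ++ aW ++ winv (tW.getD e.1 []))
      (v ++ ((List.replicate e.2.1.1 aW).flatten ++ (List.replicate e.2.1.2 bW).flatten) ++ winv v) &&
    same (tW.getD e.1 [] ++ bW ++ winv (tW.getD e.1 []))
      (v ++ ((List.replicate e.2.2.1 aW).flatten ++ (List.replicate e.2.2.2 bW).flatten) ++ winv v))
        = true := by decide +kernel

theorem cW_ok : (same (List.replicate 13 cW).flatten [] && !Nat.beq (E cW 20) 20 &&
    same (nW ++ cW) ((List.replicate nExp cW).flatten ++ nW) && okL nW) = true := by decide +kernel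

theorem treeN_ok : Nat.beq (grow [cW, nW] treeN treeNLen 0 repM) farM = true := by decide +kernel

theorem reps_ok : ((List.range 4060).all fun i => !repM.testBit i || reps.contains i) &&
    Nat.beq reps.length 25 && (List.range 25).all (fun j => okL (gW.getD j []) &&
      Nat.beq (E (gW.getD j []) 1) (reps.getD j 0)) = true := by decide +kernel

theorem adj_ok : (adjTab.all fun e => ok18 e.2.1 && Nat.beq (E e.2.1 0) e.1 && Nat.blt e.1 4060 &&
    Nat.beq (imgMask e.2.1 nbM 4060) e.2.2) = true := by decide +kernel

theorem adj_heads : (Nat.beq (adjTab.getD 0 (0, [], 0)).1 20 && Nat.beq (adjTab.getD 1 (0, [], 0)).1 1 &&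
    ((adjTab.drop 1).all fun e => farM.testBit e.1) &&
    Nat.beq (count ((adjTab.getD 1 (0, [], 0)).2.2 &&& nbM)) 780) = true := by decide +kernel

theorem corb_ok : (corb.all fun e => Nat.blt e.1 4060 && Nat.beq (cyc cW 13 e.1) e.2 &&
    cycOK cW 13 e.1 && Nat.beq (e.2 &&& nbM) e.2) = true := by decide +kernel

end Cfsg.Agent.RuRankThree
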