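import Cfsg.Agent.Lib.RuPerm.Groups

/-!
# Tools for recognising the Rudvalis group as a rank three group

* `gl`, `tab`, `snd`, `winv` : the nine letters and their inverses
* `L`, `eq_of_det`, `same` : the stabiliser of the first line and equalities of words
* `msk`, `count` : sets given by masks
* `grow`, `grow_subset` : reachability certificates
* `Inv`, `sizedOK`, `classes_cases` : invariant sets are unions of connected classes
-/

set_option autoImplicit false
set_option maxRecDepth 8000

namespace Cfsg.Agent.RuRankThree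

open Cfsg.Agent.StabCert Cfsg.Agent.RuPerm

/-- The 4060 lines. -/
abbrev Pt : Type := Fin 4060

/-- Tables of the letters and their inverses. -/
def tab : List ℕ := perm ++ permInv

/-- The letters: nine permutations and their inverses. -/
noncomputable def gl (k : ℕ) : Equiv.Perm Pt := if k < 9 then gen k else (gen (k - 9))⁻¹

/-- Evaluation of a word. -/
abbrev E (l : List ℕ) (x : ℕ) : ℕ := ev 12 tab l x

/-- The permutation of a word. -/
noncomputable def w (l : List ℕ) : Equiv.Perm Pt := wordEl gl l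

/-- The inverse word. -/
def winv (l : List ℕ) : List ℕ := (l.map fun k => if k < 9 then k + 9 else k - 9).reverse

theorem permInv_lt : ((List.range 9).all fun k => (List.range 4060).all fun i =>
    Nat.blt (look 12 (permInv.getD k 0) i) 4060 &&
      Nat.beq (look 12 (perm.getD k 0) (look 12 (permInv.getD k 0) i)) i) = true := by decide +kernel

theorem snd : TablesSound (MonoidHom.id (Equiv.Perm Pt)) gl pt 12 4060 18 tab := by
  intro k hk i hi
  by_cases h : k < 9
  · rw [gl, if_pos h, tab, List.getD_append _ _ _ _ (by rw [show perm.length = 9 from rfl]; exact h)]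
    exact sound k h i hi
  · rw [gl, if_neg h, tab, List.getD_append_right _ _ _ _ (by rw [show perm.length = 9 from rfl]; omega),
      show perm.length = 9 from rfl]
    have hc := permInv_lt
    simp only [List.all_eq_true, List.mem_range, Bool.and_eq_true, Nat.blt_eq, Nat.beq_eq] at hc
    obtain ⟨h1, h2⟩ := hc (k - 9) (by omega) i hi
    refine ⟨h1, ?_⟩
    rw [MonoidHom.id_apply, Equiv.Perm.inv_eq_iff_eq]
    exact (((sound (k - 9) (by omega) _ h1).2).trans (by rw [h2])).symm

/-- All letters are among the eighteen. -/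
def ok18 (l : List ℕ) : Bool := l.all fun k => Nat.blt k 18

theorem app {l : List ℕ} (h : ok18 l = true) {x : ℕ} (hx : x < 4060) :
    E l x < 4060 ∧ w l (pt x) = pt (E l x) := by
  have := ev_spec snd l (fun k hk => by
    simp only [ok18, List.all_eq_true, Nat.blt_eq] at h; exact h k hk) x hx
  exact this

theorem app' {l : List ℕ} (h : ok18 l = true) (x : Pt) : w l x = pt (E l x.val) := by
  have := (app h x.isLt).2
  rwa [pt_val] at this

theorem w_nil : w [] = 1 := by simp [w, wordEl]

theorem w_cons (k : ℕ) (l : List ℕ) : w (k :: l) = gl k * w l := by simp [w, wordEl]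

theorem w_append (a b : List ℕ) : w (a ++ b) = w a * w b := wordEl_append gl a b

theorem w_winv {l : List ℕ} (h : ok18 l = true) : w (winv l) = (w l)⁻¹ := by
  induction l with
  | nil => simp [winv, w_nil]
  | cons k l ih =>
    simp only [ok18, List.all_cons, Bool.and_eq_true, Nat.blt_eq] at h
    rw [winv, List.map_cons, List.reverse_cons, w_append, w_cons k l, mul_inv_rev,
      show w (l.map fun k => if k < 9 then k + 9 else k - 9).reverse = (w l)⁻¹ from ih h.2]
    congr 1
    rw [w_cons, w_nil, mul_one]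
    by_cases hk : k < 9
    · rw [if_pos hk, gl, gl, if_neg (by omega), if_pos hk, Nat.add_sub_cancel]
    · rw [if_neg hk, gl, gl, if_pos (by omega), if_neg hk, inv_inv]

theorem w_replicate (n : ℕ) (l : List ℕ) : w (List.replicate n l).flatten = w l ^ n := by
  induction n with
  | zero => simp [w_nil]
  | succ n ih => rw [List.replicate_succ, List.flatten_cons, w_append, ih, pow_succ']

/-- The stabiliser of the first line in the Rudvalis group. -/
noncomputable abbrev L : Subgroup (Equiv.Perm Pt) := sub gen levG1.gens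

/-- All letters fix the first line. -/
def okL (l : List ℕ) : Bool := l.all fun k => Nat.blt k 4 || (Nat.ble 9 k && Nat.blt k 13)

theorem okL_18 {l : List ℕ} (h : okL l = true) : ok18 l = true := by
  simp only [okL, ok18, List.all_eq_true, Bool.or_eq_true, Bool.and_eq_true, Nat.blt_eq, Nat.ble_eq] at h ⊢
  exact fun k hk => by have := h k hk; omega

theorem levG1_gens : levG1.gens = [0, 1, 2, 3] := rfl

theorem w_mem {l : List ℕ} (h : okL l = true) : w l ∈ L := by
  simp only [okL, List.all_eq_true, Bool.or_eq_true, Bool.and_eq_true, Nat.blt_eq, Nat.ble_eq] at h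
  refine list_prod_mem fun y hy => ?_
  obtain ⟨k, hk, rfl⟩ := List.mem_map.1 hy
  rcases h k hk with h1 | ⟨h1, h2⟩
  · rw [gl, if_pos (by omega)]
    exact gen_mem_sub gen (by rw [levG1_gens]; simp only [List.mem_cons, List.not_mem_nil]; omega)
  · rw [gl, if_neg (by omega)]
    exact inv_mem (gen_mem_sub gen (by rw [levG1_gens]; simp only [List.mem_cons, List.not_mem_nil]; omega))

theorem w_mem_rud {l : List ℕ} (h : ok18 l = true) : w l ∈ orthGroup := by
  simp only [ok18, List.all_eq_true, Nat.blt_eq] at h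
  refine list_prod_mem fun y hy => ?_
  obtain ⟨k, hk, rfl⟩ := List.mem_map.1 hy
  by_cases h1 : k < 9
  · rw [gl, if_pos h1]; exact gen_mem h1
  · rw [gl, if_neg h1]; exact inv_mem (gen_mem (by have := h k hk; omega))

theorem L_le_nine : L ≤ sub gen (List.range 9) :=
  Subgroup.closure_mono (Set.image_mono fun k hk => by
    have : ∀ k ∈ levG1.gens, k ∈ List.range 9 := by decide
    exact this k hk)

theorem L_le_rud : L ≤ orthGroup := sub_le _ (by decide)

theorem eq_of_det {g h : Equiv.Perm Pt} (hg : g ∈ L) (hh : h ∈ L)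
    (e : ∀ β ∈ detPts, g (pt β) = h (pt β)) : g = h := by
  have := eq_one_of_fix (L_le_nine (mul_mem (inv_mem hh) hg)) fun β hβ => by
    rw [Equiv.Perm.mul_apply, e β hβ]
    exact h.symm_apply_apply _
  exact (inv_mul_eq_one.1 this).symm

/-- Two words agree. -/
def same (l l' : List ℕ) : Bool :=
  okL l && okL l' && detPts.all fun β => Nat.beq (E l β) (E l' β)

theorem same_spec {l l' : List ℕ} (h : same l l' = true) : okL l = true ∧ okL l' = true ∧ w l = w l' := by
  simp only [same, Bool.and_eq_true, List.all_eq_true, Nat.beq_eq] at h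
  obtain ⟨⟨h1, h2⟩, h3⟩ := h
  refine ⟨h1, h2, eq_of_det (w_mem h1) (w_mem h2) fun β hβ => ?_⟩
  rw [(app (okL_18 h1) (detPts_lt β hβ)).2, (app (okL_18 h2) (detPts_lt β hβ)).2, h3 β hβ]

/-! ### Masks -/

/-- The set of a mask. -/
def msk (m : ℕ) : Finset Pt := Finset.univ.filter fun x : Pt => m.testBit x.val

/-- The size of the set of a mask. -/
def count (m : ℕ) : ℕ := ((List.range 4060).filter fun i => m.testBit i).length

theorem mem_msk {m : ℕ} {x : Pt} : x ∈ msk m ↔ m.testBit x.val = true := by simp [msk]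

theorem card_msk (m : ℕ) : (msk m).card = count m := by
  have e : (msk m).map Fin.valEmbedding = ((List.range 4060).filter fun i => m.testBit i).toFinset := by
    ext i
    simp only [Finset.mem_map, mem_msk, Fin.valEmbedding_apply, List.mem_toFinset, List.mem_filter,
      List.mem_range]
    exact ⟨fun ⟨x, h, e⟩ => e ▸ ⟨x.isLt, h⟩, fun ⟨h, h'⟩ => ⟨⟨i, h⟩, h', rfl⟩⟩
  rw [← Finset.card_map Fin.valEmbedding, e,
    List.toFinset_card_of_nodup (List.nodup_range.filter _)]
  rfl

theorem msk_or (a b : ℕ) : msk (a ||| b) = msk a ∪ msk b := by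
  ext x; simp [mem_msk, Nat.testBit_or]

theorem mem_msk_two_pow {x : Pt} {y : ℕ} : x ∈ msk (2 ^ y) ↔ y = x.val := by
  simp [mem_msk, Nat.testBit_two_pow]

theorem pt_mem_msk {m i : ℕ} (hi : i < 4060) : pt i ∈ msk m ↔ m.testBit i = true := by
  rw [mem_msk, val_pt hi]

/-! ### Reachability -/

/-- One step: the image of a reached point. -/
def step (ws : List (List ℕ)) (e m : ℕ) : ℕ :=
  if Nat.blt (e / 16) 4060 && m.testBit (e / 16) then onNat (E (ws.getD (e % 16) []) (e / 16)) fun y => m ||| 2 ^ y else m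

/-- Repeated steps. -/
def grow (ws : List (List ℕ)) (T : ℕ) : ℕ → ℕ → ℕ → ℕ
  | 0, _, m => m
  | n + 1, i, m => onNat (step ws (look 16 T i) m) fun m' => grow ws T n (i + 1) m'

/-- A set invariant under words. -/
def Inv (ws : List (List ℕ)) (S : Finset Pt) : Prop := ∀ l ∈ ws, ∀ x, w l x ∈ S ↔ x ∈ S

theorem Inv.compl {ws : List (List ℕ)} {S : Finset Pt} (h : Inv ws S) : Inv ws Sᶜ := fun l hl x => by
  simp [h l hl x]

theorem getD_ok {ws : List (List ℕ)} (h : ws.all ok18 = true) (s : ℕ) : ok18 (ws.getD s []) = true := by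
  rw [List.all_eq_true] at h
  by_cases hs : s < ws.length
  · rw [List.getD_eq_getElem _ _ hs]; exact h _ (List.getElem_mem hs)
  · rw [List.getD_eq_default _ _ (by omega)]; rfl

theorem getD_closed {ws : List (List ℕ)} {S : Set Pt} (hS : ∀ l ∈ ws, ∀ x ∈ S, w l x ∈ S) (s : ℕ)
    {x : Pt} (hx : x ∈ S) : w (ws.getD s []) x ∈ S := by
  by_cases hs : s < ws.length
  · rw [List.getD_eq_getElem _ _ hs]; exact hS _ (List.getElem_mem hs) x hx
  · rw [List.getD_eq_default _ _ (by omega), w_nil]; exact hx

theorem step_subset {ws : List (List ℕ)} (h : ws.all ok18 = true) {S : Set Pt}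
    (hS : ∀ l ∈ ws, ∀ x ∈ S, w l x ∈ S) {e m : ℕ} (hm : ∀ x ∈ msk m, x ∈ S) :
    ∀ x ∈ msk (step ws e m), x ∈ S := by
  intro x hx
  unfold step at hx
  split_ifs at hx with hb
  · rw [onNat_eq, msk_or, Finset.mem_union, mem_msk_two_pow] at hx
    simp only [Bool.and_eq_true, Nat.blt_eq] at hb
    rcases hx with hx | hx
    · exact hm x hx
    have h1 := app (getD_ok h (e % 16)) hb.1
    have := getD_closed hS (e % 16) (hm _ ((pt_mem_msk hb.1).2 hb.2))
    rwa [h1.2, hx, pt_val] at this
  · exact hm x hx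

theorem grow_subset {ws : List (List ℕ)} (h : ws.all ok18 = true) {S : Set Pt}
    (hS : ∀ l ∈ ws, ∀ x ∈ S, w l x ∈ S) (T : ℕ) : ∀ (n i m : ℕ), (∀ x ∈ msk m, x ∈ S) →
      ∀ x ∈ msk (grow ws T n i m), x ∈ S
  | 0, _, _, hm => hm
  | n + 1, i, m, hm => by
    rw [grow, onNat_eq]
    exact grow_subset h hS T n (i + 1) _ (step_subset h hS hm)

/-! ### Classes -/

/-- A class: mask, root, number of steps, steps. -/
abbrev Cls : Type := ℕ × ℕ × ℕ × ℕ

/-- The union of classes. -/
def orAll (cl : List Cls) : ℕ := cl.foldr (fun c acc => c.1 ||| acc) 0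

/-- The classes are connected and cover the mask. -/
def classesOK (ws : List (List ℕ)) (U : ℕ) (cl : List Cls) : Bool :=
  ws.all ok18 && Nat.beq (orAll cl) U && cl.all fun c =>
    Nat.blt c.2.1 4060 && Nat.beq (grow ws c.2.2.2 c.2.2.1 0 (2 ^ c.2.1)) c.1 && c.1.testBit c.2.1

theorem mem_orAll {cl : List Cls} {x : Pt} : x ∈ msk (orAll cl) ↔ ∃ c ∈ cl, x ∈ msk c.1 := by
  induction cl with
  | nil => simp [orAll, mem_msk]
  | cons c cl ih =>
    show x ∈ msk (c.1 ||| orAll cl) ↔ _
    rw [msk_or, Finset.mem_union, ih]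
    simp

theorem class_subset {ws : List (List ℕ)} {U : ℕ} {cl : List Cls} (h : classesOK ws U cl = true)
    {S : Finset Pt} (hS : Inv ws S) {c : Cls} (hc : c ∈ cl) {x : Pt} (hx : x ∈ msk c.1) :
    x ∈ S ↔ pt c.2.1 ∈ S := by
  simp only [classesOK, Bool.and_eq_true, List.all_eq_true, Nat.blt_eq, Nat.beq_eq] at h
  obtain ⟨⟨hws, -⟩, h⟩ := h
  obtain ⟨⟨hr, hg⟩, -⟩ := h c hc
  have key : ∀ S : Finset Pt, Inv ws S → pt c.2.1 ∈ S → x ∈ S := fun S hS hp => by
    rw [← hg] at hx
    refine grow_subset (List.all_eq_true.2 hws) (S := (S : Set Pt)) (fun l hl y hy => (hS l hl y).2 hy)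
      _ _ _ _ (fun y hy => ?_) x hx
    rw [mem_msk_two_pow] at hy
    rw [hy, pt_val] at hp
    exact hp
  refine ⟨fun hxS => ?_, key S hS⟩
  by_contra hp
  exact (Finset.mem_compl.1 (key Sᶜ hS.compl (Finset.mem_compl.2 hp))) hxS

/-- Classes with their sizes, which add up to the size of the whole. -/
def sizedOK (ws : List (List ℕ)) (U : ℕ) (cl : List (Cls × ℕ)) : Bool :=
  classesOK ws U (cl.map Prod.fst) && (cl.all fun c => Nat.beq (count c.1.1) c.2) &&
    Nat.beq (count U) (cl.map Prod.snd).sum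

theorem card_orAll_le : ∀ {cl : List (Cls × ℕ)}, (∀ c ∈ cl, count c.1.1 = c.2) →
    (msk (orAll (cl.map Prod.fst))).card ≤ (cl.map Prod.snd).sum
  | [], _ => by simp [orAll, msk]
  | c :: cl, h => by
    rw [List.map_cons, List.map_cons, List.sum_cons,
      show orAll (c.1 :: cl.map Prod.fst) = c.1.1 ||| orAll (cl.map Prod.fst) from rfl, msk_or]
    refine (Finset.card_union_le _ _).trans (Nat.add_le_add ?_ (card_orAll_le fun d hd => h d (List.mem_cons_of_mem _ hd)))
    rw [card_msk, h c List.mem_cons_self]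

/-- An invariant set is a union of classes, of the sum of their sizes. -/
theorem classes_cases {ws : List (List ℕ)} {U : ℕ} {cl : List (Cls × ℕ)} {P : ℕ → ℕ → Bool}
    (h : (sizedOK ws U cl && cl.sublists.all fun sel =>
      P (orAll (sel.map Prod.fst)) (sel.map Prod.snd).sum) = true) {S : Finset Pt}
    (hS : Inv ws S) (hU : S ⊆ msk U) : ∃ m, P m S.card = true ∧ S = msk m := by
  classical
  simp only [sizedOK, Bool.and_eq_true, List.all_eq_true, Nat.beq_eq] at h
  obtain ⟨⟨⟨h, hsz⟩, htot⟩, hP⟩ := h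
  set q : Cls × ℕ → Bool := fun c => decide (pt c.1.2.1 ∈ S) with hq
  have hor : orAll (cl.map Prod.fst) = U := by
    simp only [classesOK, Bool.and_eq_true, Nat.beq_eq] at h
    exact h.1.2
  have hcl : ∀ c ∈ cl, ∀ x ∈ msk c.1.1, (x ∈ S ↔ pt c.1.2.1 ∈ S) := fun c hc x hx =>
    class_subset h hS (List.mem_map.2 ⟨c, hc, rfl⟩) hx
  have e1 : S = msk (orAll ((cl.filter q).map Prod.fst)) := by
    ext x
    rw [mem_orAll]
    constructor
    · intro hx
      obtain ⟨_, hm0, hxc⟩ := mem_orAll.1 (show x ∈ msk (orAll (cl.map Prod.fst)) by rw [hor]; exact hU hx)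
      obtain ⟨c, hc, rfl⟩ := List.mem_map.1 hm0
      exact ⟨c.1, List.mem_map.2 ⟨c, List.mem_filter.2 ⟨hc, decide_eq_true ((hcl c hc x hxc).1 hx)⟩, rfl⟩, hxc⟩
    · rintro ⟨_, hm0, hxc⟩
      obtain ⟨c, hc, rfl⟩ := List.mem_map.1 hm0
      obtain ⟨hc, hd⟩ := List.mem_filter.1 hc
      exact (hcl c hc x hxc).2 (of_decide_eq_true hd)
  have hle1 := card_orAll_le (cl := cl.filter q) fun c hc => hsz c (List.mem_filter.1 hc).1
  have hle2 := card_orAll_le (cl := cl.filter fun c => !q c) fun c hc => hsz c (List.mem_filter.1 hc).1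
  have hsum : ((cl.filter q).map Prod.snd).sum + ((cl.filter fun c => !q c).map Prod.snd).sum =
      (cl.map Prod.snd).sum := by
    clear hle1 hle2 e1 hP htot hsz hcl h hor
    induction cl with
    | nil => simp
    | cons c cl ih =>
      cases hc : q c <;> simp [List.filter_cons, hc] <;> omega
  have hU' : msk U ⊆ msk (orAll ((cl.filter q).map Prod.fst)) ∪
      msk (orAll ((cl.filter fun c => !q c).map Prod.fst)) := by
    intro x hx
    rw [← hor, mem_orAll] at hx
    obtain ⟨_, hm0, hxc⟩ := hx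
    obtain ⟨c, hc, rfl⟩ := List.mem_map.1 hm0
    rw [Finset.mem_union, mem_orAll, mem_orAll]
    cases hqc : q c
    · exact Or.inr ⟨c.1, List.mem_map.2 ⟨c, List.mem_filter.2 ⟨hc, by simp [hqc]⟩, rfl⟩, hxc⟩
    · exact Or.inl ⟨c.1, List.mem_map.2 ⟨c, List.mem_filter.2 ⟨hc, hqc⟩, rfl⟩, hxc⟩
  have h3 := (Finset.card_le_card hU').trans (Finset.card_union_le _ _)
  rw [card_msk, htot, ← e1] at h3
  rw [← e1] at hle1
  refine ⟨orAll ((cl.filter q).map Prod.fst), ?_, e1⟩
  rw [show S.card = ((cl.filter q).map Prod.snd).sum by omega]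
  exact hP _ (List.mem_sublists.2 List.filter_sublist)

end Cfsg.Agent.RuRankThree
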