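import Cfsg.Agent.Lib.RuRankThree.Basic

/-!
# The stabiliser of a far line

* `stL_one` : its generators
* `star_inj` : a far line is determined by its neighbours in the first suborbit
* `far_set` : the invariant sets of 975 far lines
-/

set_option autoImplicit false
set_option maxRecDepth 100000

namespace Cfsg.Agent.RuRankThree

open Cfsg.Agent.StabCert Cfsg.Agent.RuPerm MulAction

attribute [local irreducible] nbM farM adjTab clFn clK rootK kGens

theorem kGens_spec : (∀ l ∈ kGens, okL l = true ∧ w l ∈ stL (pt 1)) := by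
  intro l hl
  have h := kGens_ok
  simp only [Bool.and_eq_true, List.all_eq_true, Nat.beq_eq] at h
  obtain ⟨ho, he⟩ := h.1.1.1.1.1.1 l hl
  refine ⟨ho, w_mem ho, ?_⟩
  show w l (pt 1) = pt 1
  rw [(app (okL_18 ho) (by norm_num)).2, he]

theorem expW_mem {S : Subgroup (Equiv.Perm Pt)} {ws : List (List ℕ)} (h : ∀ l ∈ ws, okL l = true ∧ w l ∈ S) :
    ∀ l : List ℕ, okL (expW ws l) = true ∧ w (expW ws l) ∈ S
  | [] => ⟨rfl, by rw [show expW ws [] = [] from rfl, w_nil]; exact one_mem _⟩
  | s :: l => by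
    obtain ⟨ih1, ih2⟩ := expW_mem h l
    have hs : okL (ws.getD s []) = true ∧ w (ws.getD s []) ∈ S := by
      by_cases hs : s < ws.length
      · rw [List.getD_eq_getElem _ _ hs]; exact h _ (List.getElem_mem hs)
      · rw [List.getD_eq_default _ _ (by omega), w_nil]; exact ⟨rfl, one_mem _⟩
    have e : expW ws (s :: l) = ws.getD s [] ++ expW ws l := by simp [expW]
    rw [e, w_append]
    refine ⟨?_, mul_mem hs.2 ih2⟩
    simp only [okL, List.all_append, Bool.and_eq_true] at *
    exact ⟨hs.1, ih1⟩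

/-- The group generated by the two generators. -/
noncomputable def KOne : Subgroup (Equiv.Perm Pt) := Subgroup.closure {g | ∃ l ∈ kGens, g = w l}

theorem KOne_eq : KOne = stL (pt 1) := by
  classical
  have hle : KOne ≤ stL (pt 1) := by
    rw [KOne, Subgroup.closure_le]
    rintro _ ⟨l, hl, rfl⟩
    exact (kGens_spec l hl).2
  refine Subgroup.eq_of_le_of_card_ge hle ?_
  rw [card_stL_one]
  have h := kGens_ok
  simp only [Bool.and_eq_true, List.all_eq_true, Nat.beq_eq, decide_eq_true_eq] at h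
  obtain ⟨⟨⟨⟨⟨⟨-, hK⟩, hcl⟩, hlen⟩, hfix⟩, hnd⟩, h16⟩ := h
  obtain ⟨c, hc⟩ : ∃ c, clK = [c] := List.length_eq_one_iff.1 hlen
  obtain ⟨hroot, hcnt⟩ := hK c (by rw [hc]; simp)
  have hr : rootK < 4060 := by
    have h := hcl
    simp only [classesOK, Bool.and_eq_true, List.all_eq_true, Nat.blt_eq] at h
    rw [← hroot]
    exact (h.2 c (by rw [hc]; simp)).1.1
  set O : Finset Pt := Finset.univ.filter fun y => y ∈ orbit KOne (pt rootK) with hO
  have hI : Inv kGens O := by
    intro l hl y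
    simp only [hO, Finset.mem_filter, Finset.mem_univ, true_and]
    rw [← orbit_eq_iff, ← orbit_eq_iff (a := y), show w l y =
      (⟨w l, Subgroup.subset_closure ⟨l, hl, rfl⟩⟩ : KOne) • y from rfl, orbit_smul]
  have hsub : msk c.1 ⊆ O := fun y hy =>
    (class_subset hcl hI (by rw [hc]; simp) hy).2 (by
      rw [hroot]; exact Finset.mem_filter.2 ⟨Finset.mem_univ _, mem_orbit_self _⟩)
  have h975 : 975 ≤ (orbit KOne (pt rootK)).ncard := by
    have := Finset.card_le_card hsub
    rw [card_msk, hcnt] at this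
    refine this.trans (le_of_eq ?_)
    rw [← Set.ncard_coe_finset]; congr 1; ext y; simp [hO]
  have hst : 16 ≤ Nat.card ↥(KOne ⊓ stabilizer (Equiv.Perm Pt) (pt rootK)) := by
    have hmem : ∀ i : Fin kFix.length, w (expW kGens (kFix.get i)) ∈
        KOne ⊓ stabilizer (Equiv.Perm Pt) (pt rootK) := fun i => by
      have hk := expW_mem (S := KOne) (fun l hl => ⟨(kGens_spec l hl).1,
        Subgroup.subset_closure ⟨l, hl, rfl⟩⟩) (kFix.get i)
      refine ⟨hk.2, ?_⟩
      show w _ (pt rootK) = pt rootK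
      rw [(app (okL_18 hk.1) hr).2, (hfix _ (List.get_mem _ i)).2]
    have hinj : Function.Injective fun i => (⟨_, hmem i⟩ : ↥(KOne ⊓ stabilizer (Equiv.Perm Pt) (pt rootK))) := by
      intro i j e
      have e' : w (expW kGens (kFix.get i)) = w (expW kGens (kFix.get j)) := congrArg Subtype.val e
      refine Fin.ext ((List.Nodup.getElem_inj_iff hnd (hi := by simpa using i.isLt) (hj := by simpa using j.isLt)).1 ?_)
      simp only [List.getElem_map]
      refine List.map_congr_left fun β hβ => ?_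
      have ok := fun i : Fin kFix.length => okL_18 (expW_mem (S := KOne) (fun l hl => ⟨(kGens_spec l hl).1,
        Subgroup.subset_closure ⟨l, hl, rfl⟩⟩) (kFix.get i)).1
      have a1 := app (ok i) (detPts_lt β hβ)
      have a2 := app (ok j) (detPts_lt β hβ)
      have := congrArg (fun g : Equiv.Perm Pt => (g (pt β)).val) e'
      simp only [a1.2, a2.2, val_pt a1.1, val_pt a2.1] at this
      exact this
    have := Nat.card_le_card_of_injective _ hinj
    rwa [Nat.card_fin, h16] at this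
  have := card_stab_mul KOne (pt rootK)
  have := Nat.mul_le_mul hst h975
  omega

theorem inv_of_stL {S : Finset Pt} (h : ∀ g ∈ L, g (pt 1) = pt 1 → ∀ y, g y ∈ S ↔ y ∈ S) : Inv kGens S :=
  fun l hl => h _ (kGens_spec l hl).2.1 (kGens_spec l hl).2.2

theorem adjOne : ∃ e ∈ adjTab, e.1 = 1 ∧ adjTab.getD 1 (0, [], 0) = e ∧ count (e.2.2 &&& nbM) = 780 := by
  have := adj_heads
  simp only [Bool.and_eq_true, Nat.beq_eq] at this
  refine ⟨_, ?_, this.1.1.2, rfl, this.2⟩
  rw [List.getD_eq_getElem _ _ (by decide +kernel)]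
  exact List.getElem_mem _

theorem card_star {x : Pt} (hx : x ∈ FAR) : (star' x).card = 780 := by
  classical
  obtain ⟨g, hg, rfl⟩ := exists_FAR hx
  obtain ⟨e, he, he1, -, hec⟩ := adjOne
  have h1 : (star' (pt 1)).card = 780 := by rw [← he1, star_adjTab he, card_msk, hec]
  rw [← h1]
  refine (Finset.card_bij (fun y _ => g y) (fun y hy => (star_smul hg _ y).2 hy)
    (fun _ _ _ _ e => g.injective e) fun z hz => ⟨g.symm z, ?_, g.apply_symm_apply z⟩).symm
  rw [← star_smul hg, g.apply_symm_apply]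
  exact hz

/-- A far line is determined by its neighbours. -/
theorem star_inj {x y : Pt} (hx : x ∈ FAR) (hy : y ∈ FAR) (he : star' x = star' y) : x = y := by
  classical
  suffices key : ∀ z ∈ FAR, star' z = star' (pt 1) → z = pt 1 by
    obtain ⟨g, hg, rfl⟩ := exists_FAR hx
    have h : star' (g.symm y) = star' (pt 1) := by
      ext u
      rw [← star_smul hg (g.symm y) u, g.apply_symm_apply, ← he, star_smul hg]
    have := key _ ((mem_FAR_smul hg _).1 (by rwa [g.apply_symm_apply])) h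
    rw [← this, g.apply_symm_apply]
  intro z hz hzs
  let M : Subgroup (Equiv.Perm Pt) :=
    { carrier := {g | g ∈ L ∧ ∀ u, g u ∈ star' (pt 1) ↔ u ∈ star' (pt 1)}
      one_mem' := ⟨one_mem _, fun _ => Iff.rfl⟩
      mul_mem' := fun {a b} ha hb => ⟨mul_mem ha.1 hb.1, fun u => (ha.2 _).trans (hb.2 u)⟩
      inv_mem' := fun {a} ha => ⟨inv_mem ha.1, fun u => by
        rw [← ha.2, show a (a⁻¹ u) = u from a.apply_symm_apply u]⟩ }
  have hM : M ≤ L := fun g hg => hg.1
  have hst : stL (pt 1) ≤ M := fun g hg => ⟨hg.1, fun u => by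
    have := star_smul hg.1 (pt 1) u
    rwa [show g (pt 1) = pt 1 from hg.2] at this⟩
  set O : Finset Pt := Finset.univ.filter fun u => u ∈ orbit M (pt 1) with hO
  have hzO : z ∈ O := by
    obtain ⟨g, hg, rfl⟩ := exists_FAR hz
    refine Finset.mem_filter.2 ⟨Finset.mem_univ _, ⟨⟨g, hg, fun u => ?_⟩, rfl⟩⟩
    conv_lhs => rw [← hzs]
    exact star_smul hg _ u
  have hsub : O ⊆ msk farM := fun u hu => by
    obtain ⟨g, rfl⟩ := (Finset.mem_filter.1 hu).2
    exact (mem_FAR_smul g.2.1 _).2 one_mem_FAR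
  have hI : Inv kGens O := by
    intro l hl u
    simp only [hO, Finset.mem_filter, Finset.mem_univ, true_and]
    rw [← orbit_eq_iff, ← orbit_eq_iff (a := u), show w l u =
      (⟨w l, hst (kGens_spec l hl).2⟩ : M) • u from rfl, orbit_smul]
  obtain ⟨m, hm, hOm⟩ := classes_cases (P := fun m c => (!m.testBit 1 || !Nat.beq (2304 % c) 0 || Nat.beq m 2 || Nat.beq m farM) &&
      (m.testBit 1 || !Nat.beq c 975 || Nat.beq m ((adjTab.getD 1 (0, [], 0)).2.2 &&& farM)))
    clF_ok hI hsub
  rw [Bool.and_eq_true] at hm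
  replace hm := hm.1
  have hOc : (orbit M (pt 1)).ncard = O.card := by
    rw [← Set.ncard_coe_finset]; congr 1; ext u; simp [hO]
  have hdvd : O.card ∣ 2304 := by
    have h1 := card_stab_mul M (pt 1)
    have h2 : M ⊓ stabilizer (Equiv.Perm Pt) (pt 1) = stL (pt 1) :=
      le_antisymm (inf_le_inf_right _ hM) (le_inf hst fun g hg => hg.2)
    rw [h2, card_stL_one, hOc] at h1
    have h3 := Subgroup.card_dvd_of_le hM
    rw [← h1, natCard_stabG, show (35942400 : ℕ) = 15600 * 2304 by norm_num] at h3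
    exact Nat.dvd_of_mul_dvd_mul_left (by norm_num) h3
  have h1O : pt 1 ∈ O := Finset.mem_filter.2 ⟨Finset.mem_univ _, mem_orbit_self _⟩
  rw [hOm, pt_mem_msk (by norm_num)] at h1O
  simp only [Bool.or_eq_true, Bool.not_eq_true', Nat.beq_eq] at hm
  rcases hm with ((hm | hm) | hm) | hm
  · rw [h1O] at hm; simp at hm
  · rw [Nat.mod_eq_zero_of_dvd hdvd] at hm; simp at hm
  · rw [hOm, hm, show (2 : ℕ) = 2 ^ 1 from rfl, mem_msk_two_pow] at hzO
    rw [← pt_val z, ← hzO]
  · exfalso
    have hall : ∀ u ∈ FAR, star' u = star' (pt 1) := fun u hu => by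
      have : u ∈ O := by rw [hOm, hm]; exact hu
      obtain ⟨g, rfl⟩ := (Finset.mem_filter.1 this).2
      ext v
      rw [← g.1.apply_symm_apply v]
      exact (star_smul g.2.1 _ _).trans (g.2.2 _).symm
    obtain ⟨v, hv⟩ : (star' (pt 1)).Nonempty := Finset.card_pos.1 (by rw [card_star one_mem_FAR]; norm_num)
    obtain ⟨g, hg, hgv⟩ := exists_NB (mem_star.1 hv).1
    have hNB : NB ⊆ star' (pt 1) := fun u hu => by
      obtain ⟨k, hk, rfl⟩ := exists_NB hu
      have h20 : pt 20 ∈ star' (g.symm (pt 1)) := by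
        rw [← star_smul hg, hgv, g.apply_symm_apply]; exact hv
      rw [hall _ ((mem_FAR_smul hg _).1 (by rw [g.apply_symm_apply]; exact one_mem_FAR))] at h20
      have := (star_smul hk (pt 1) (pt 20)).2 h20
      rwa [hall _ ((mem_FAR_smul hk _).2 one_mem_FAR)] at this
    have := Finset.card_le_card hNB
    rw [card_NB, card_star one_mem_FAR] at this
    norm_num at this

/-- The invariant sets of 975 far lines. -/
theorem far_set {S : Finset Pt} (hS : S ⊆ FAR) (h1 : pt 1 ∉ S) (hc : S.card = 975)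
    (hinv : ∀ g ∈ L, g (pt 1) = pt 1 → ∀ y, g y ∈ S ↔ y ∈ S) :
    ∀ y ∈ FAR, (y ∈ S ↔ Orth (pt 1) y) := by
  obtain ⟨m, hm, rfl⟩ := classes_cases (P := fun m c => (!m.testBit 1 || !Nat.beq (2304 % c) 0 || Nat.beq m 2 || Nat.beq m farM) &&
      (m.testBit 1 || !Nat.beq c 975 || Nat.beq m ((adjTab.getD 1 (0, [], 0)).2.2 &&& farM)))
    clF_ok (inv_of_stL hinv) hS
  rw [Bool.and_eq_true] at hm
  replace hm := hm.2
  rw [pt_mem_msk (by norm_num)] at h1
  rw [hc] at hm
  simp only [h1, Bool.or_eq_true, Bool.not_eq_true', Nat.beq_eq, Nat.beq_refl, false_or] at hm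
  obtain ⟨e, he, he1, he2, -⟩ := adjOne
  intro y hy
  rcases hm with (hm | hm) | hm
  · cases hm
  · simp at hm
  rw [hm, he2, mem_msk, Nat.testBit_and, Bool.and_eq_true, ← mem_msk, ← mem_msk, ← he1, ← orth_adjTab he y]
  exact and_iff_left hy

end Cfsg.Agent.RuRankThree
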