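import Cfsg.Agent.Lib.RuRankThree.Basic

/-!
# Stabilisers of neighbours

* `exists_fixed` : a subgroup of order 20480 fixes a point of the first suborbit
* `near_set` : the invariant sets which may serve as common neighbours
-/

set_option autoImplicit false
set_option maxRecDepth 100000

namespace Cfsg.Agent.RuRankThree

open Cfsg.Agent.StabCert Cfsg.Agent.RuPerm MulAction

attribute [local irreducible] nbM farM adjTab clPn clSn tenM pairM sTwo eFive

/-- The 2-subgroup. -/
noncomputable def STwo : Subgroup (Equiv.Perm Pt) := Subgroup.closure {g | ∃ l ∈ sTwo, g = w l}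

theorem levG2_gens_eq : levG2.gens = [0, 1, 2] := rfl

theorem sTwo_mem {l : List ℕ} (hl : l ∈ sTwo) : okL l = true ∧ w l ∈ stL (pt 20) := by
  have h := sTwo_ok
  simp only [Bool.and_eq_true, List.all_eq_true, Nat.beq_eq, List.contains_iff_mem] at h
  obtain ⟨⟨h1, -⟩, -⟩ := h
  obtain ⟨hk, he⟩ := h1 l hl
  have hok : okL l = true := by
    simp only [okL, List.all_eq_true, Bool.or_eq_true, Nat.blt_eq]
    exact fun k hk' => Or.inl (by have := hk k hk'; simp at this; omega)
  refine ⟨hok, w_mem hok, ?_⟩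
  show w l (pt 20) = pt 20
  rw [(app (okL_18 hok) (by norm_num)).2, he]

theorem STwo_le : STwo ≤ stL (pt 20) := by
  rw [STwo, Subgroup.closure_le]
  rintro _ ⟨l, hl, rfl⟩
  exact (sTwo_mem hl).2

theorem ten_inv {g : Equiv.Perm Pt} (hg : g ∈ stL (pt 20)) (x : Pt) : g x ∈ msk tenM ↔ x ∈ msk tenM := by
  rw [stL_twenty, sub, ← Subgroup.mem_toSubmonoid, Subgroup.closure_toSubmonoid_of_finite] at hg
  induction hg using Submonoid.closure_induction generalizing x with
  | mem y hy =>
    obtain ⟨k, hk, rfl⟩ := hy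
    have hk3 : k ∈ [0, 1, 2] := by rw [← levG2_gens_eq]; exact hk
    have h := sTwo_ok
    simp only [Bool.and_eq_true, List.all_eq_true, List.mem_range, beq_iff_eq] at h
    have h2 := ((h.2 x.val x.isLt).1.2) k hk3
    have hk9 : k < 9 := by simp at hk3; omega
    have e := app' (l := [k]) (by simp [ok18]; omega) x
    rw [w_cons, w_nil, mul_one, gl, if_pos hk9] at e
    rw [e, mem_msk, mem_msk, val_pt ((app (by simp [ok18]; omega) x.isLt).1), h2]
  | one => rfl
  | mul a b _ _ ha hb => exact (ha _).trans (hb x)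

theorem pair_spec : (msk pairM).card = 2 ∧ msk pairM ⊆ msk tenM ∧
    (∀ l ∈ sTwo, ∀ x, w l x ∈ msk pairM ↔ x ∈ msk pairM) ∧ ∀ x ∈ msk tenM, w eFive x ≠ x := by
  have h := sTwo_ok
  simp only [Bool.and_eq_true, List.all_eq_true, List.mem_range, beq_iff_eq, Bool.or_eq_true,
    Bool.not_eq_true', Nat.beq_eq] at h
  have h5 := eFive_ok
  simp only [Bool.and_eq_true] at h5
  refine ⟨by rw [card_msk, h.1.2], fun x hx => ?_, fun l hl x => ?_, fun x hx e => ?_⟩
  · rcases (h.2 x.val x.isLt).1.1.2 with h' | h'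
    · rw [mem_msk, h'] at hx; simp at hx
    · exact mem_msk.2 h'
  · have e := app (okL_18 (sTwo_mem hl).1) x.isLt
    rw [app' (okL_18 (sTwo_mem hl).1) x, mem_msk, mem_msk, val_pt e.1, (h.2 x.val x.isLt).1.1.1 l hl]
  · rcases (h.2 x.val x.isLt).2 with h' | h'
    · rw [mem_msk, h'] at hx; simp at hx
    · rw [app' (okL_18 h5.2) x] at e
      have := congrArg Fin.val e
      rw [val_pt (app (okL_18 h5.2) x.isLt).1] at this
      rw [this, Nat.beq_refl] at h'
      cases h'

theorem isPGroup_STwo : IsPGroup 2 STwo := by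
  haveI : Fact (Nat.Prime 5) := ⟨by norm_num⟩
  have hd : Nat.card STwo ∣ 20480 := card_stL_twenty ▸ Subgroup.card_dvd_of_le STwo_le
  by_cases h5 : 5 ∣ Nat.card STwo
  · exfalso
    obtain ⟨hc2, hsub, hinv, hfpf⟩ := pair_spec
    obtain ⟨⟨x, hxS⟩, hx⟩ := exists_prime_orderOf_dvd_card' 5 h5
    rw [Subgroup.orderOf_mk] at hx
    have hxp : x ^ 5 = 1 := hx ▸ pow_orderOf_eq_one x
    have hxinv : ∀ y, x y ∈ msk pairM ↔ y ∈ msk pairM := by
      have hxS' := hxS
      rw [STwo, ← Subgroup.mem_toSubmonoid, Subgroup.closure_toSubmonoid_of_finite] at hxS'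
      clear hx hxp
      induction hxS' using Submonoid.closure_induction with
      | mem y hy => obtain ⟨l, hl, rfl⟩ := hy; exact hinv l hl
      | one => exact fun y => Iff.rfl
      | mul a b ha hb iha ihb =>
        exact fun y => (iha (by rw [STwo, ← Subgroup.mem_toSubmonoid, Subgroup.closure_toSubmonoid_of_finite]; exact ha) _).trans
          (ihb (by rw [STwo, ← Subgroup.mem_toSubmonoid, Subgroup.closure_toSubmonoid_of_finite]; exact hb) y)
    obtain ⟨p, q, hpq, hP⟩ := Finset.card_eq_two.1 hc2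
    have hp : p ∈ msk pairM := by rw [hP]; simp
    have hfix : x p = p := by
      have h1 := (hxinv p).2 hp
      have h2 := (hxinv (x p)).2 h1
      rw [hP, Finset.mem_insert, Finset.mem_singleton] at h1 h2
      rcases h1 with h1 | h1
      · exact h1
      rcases h2 with h2 | h2
      · have e2 : (x ^ 2) p = p := h2
        have e4 : (x ^ 4) p = p := by
          rw [show x ^ 4 = x ^ 2 * x ^ 2 by group, Equiv.Perm.mul_apply, e2, e2]
        have e5 : (x ^ 5) p = p := by rw [hxp]; rfl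
        rw [show x ^ 5 = x * x ^ 4 by group, Equiv.Perm.mul_apply, e4] at e5
        exact e5
      · rw [h1] at h2
        exact absurd (x.injective (h2.trans h1.symm)) (Ne.symm hpq)
    obtain ⟨he5, he20, heL⟩ : same (List.replicate 5 eFive).flatten [] = true ∧
        Nat.beq (E eFive 20) 20 = true ∧ okL eFive = true := by
      have := eFive_ok; simp only [Bool.and_eq_true] at this; exact ⟨this.1.1, this.1.2, this.2⟩
    set G := stL (pt 20) with hG
    let ee : G := ⟨w eFive, w_mem heL, by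
      show w eFive (pt 20) = pt 20
      rw [(app (okL_18 heL) (by norm_num)).2, Nat.eq_of_beq_eq_true he20]⟩
    have hee : orderOf ee = 5 := by
      rw [← Subgroup.orderOf_coe]
      refine orderOf_eq_prime ?_ fun e => hfpf p (hsub hp) (by
        rw [show w eFive = 1 from e]; rfl)
      have := (same_spec he5).2.2
      rwa [w_replicate, w_nil] at this
    let xx : G := ⟨x, STwo_le hxS⟩
    have hxx : orderOf xx = 5 := by rw [← Subgroup.orderOf_coe]; exact hx
    have hG5 : ∀ z : G, orderOf z = 5 →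
        Nat.card (Subgroup.zpowers z) = 5 ^ (Nat.card G).factorization 5 := fun z hz => by
      rw [Nat.card_zpowers, hz, hG, card_stL_twenty, show (20480 : ℕ) = 5 ^ 1 * 4096 by norm_num,
        Nat.factorization_mul_apply_of_coprime (by norm_num), Nat.Prime.factorization_pow (by norm_num),
        Nat.factorization_eq_zero_of_not_dvd (show ¬ 5 ∣ 4096 by norm_num)]
      simp
    obtain ⟨g, hg⟩ := MulAction.exists_smul_eq G (Sylow.ofCard _ (hG5 xx hxx)) (Sylow.ofCard _ (hG5 ee hee))
    have hge : g * xx * g⁻¹ ∈ Subgroup.zpowers ee := by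
      have : (Sylow.ofCard _ (hG5 xx hxx)).map (MulAut.conj g).toMonoidHom =
          (Sylow.ofCard _ (hG5 ee hee) : Subgroup G) := by
        rw [← hg]; rfl
      exact this.le ⟨xx, Subgroup.mem_zpowers xx, rfl⟩
    have hord : orderOf (g * xx * g⁻¹) = 5 := by
      rw [← MulAut.conj_apply, MulEquiv.orderOf_eq]; exact hxx
    have hmem : ee ∈ Subgroup.zpowers (g * xx * g⁻¹) := by
      have heq : Subgroup.zpowers (g * xx * g⁻¹) = Subgroup.zpowers ee :=
        Subgroup.eq_of_le_of_card_ge (by rw [Subgroup.zpowers_le]; exact hge)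
          (by rw [Nat.card_zpowers, Nat.card_zpowers, hee, hord])
      rw [heq]; exact Subgroup.mem_zpowers ee
    obtain ⟨n, hn⟩ := Subgroup.mem_zpowers_iff.1 hmem
    refine hfpf (g.1 p) ((ten_inv g.2 p).2 (hsub hp)) ?_
    rw [show w eFive = ((g * xx * g⁻¹) ^ n : G).1 by rw [hn]]
    have hgp : (g * xx * g⁻¹ : G).1 (g.1 p) = g.1 p := by
      show g.1 (x (g.1.symm (g.1 p))) = g.1 p
      rw [Equiv.symm_apply_apply, hfix]
    rw [SubgroupClass.coe_zpow]
    exact Equiv.Perm.zpow_apply_eq_self_of_apply_eq_self hgp n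
  · have hcop : Nat.Coprime (Nat.card STwo) 5 := ((Nat.Prime.coprime_iff_not_dvd (by norm_num)).2 h5).symm
    have : Nat.card STwo ∣ 2 ^ 12 := hcop.dvd_of_dvd_mul_right (show Nat.card STwo ∣ 2 ^ 12 * 5 from hd)
    obtain ⟨k, -, hk⟩ := (Nat.dvd_prime_pow Nat.prime_two).1 this
    exact IsPGroup.of_card hk

/-- A subgroup of order 20480 fixes a point of the first suborbit. -/
theorem exists_fixed {H : Subgroup (Equiv.Perm Pt)} (hH : H ≤ L) (hc : Nat.card H = 20480) :
    ∃ x ∈ NB, ∀ h ∈ H, h x = x := by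
  classical
  haveI : Fact (Nat.Prime 2) := ⟨Nat.prime_two⟩
  set G := stL (pt 20) with hG
  have hf : (Nat.card G).factorization 2 = 12 := by
    rw [hG, card_stL_twenty, show (20480 : ℕ) = 2 ^ 12 * 5 by norm_num,
      Nat.factorization_mul_apply_of_coprime (by norm_num), Nat.Prime.factorization_pow Nat.prime_two,
      Nat.factorization_eq_zero_of_not_dvd (show ¬ 2 ∣ 5 by norm_num)]
    simp
  obtain ⟨Q, hQ⟩ := (isPGroup_STwo.comap_subtype (K := G) : IsPGroup 2 (STwo.subgroupOf G)).exists_le_sylow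
  -- `Q` as a Sylow 2-subgroup of `L`
  let Q' : Subgroup L := ((Q : Subgroup G).map G.subtype).subgroupOf L
  have hQle : (Q : Subgroup G).map G.subtype ≤ L := (Subgroup.map_subtype_le _).trans inf_le_left
  have hQc : Nat.card Q' = 2 ^ (Nat.card L).factorization 2 := by
    rw [Nat.card_congr (Subgroup.subgroupOfEquivOfLe hQle).toEquiv,
      Subgroup.card_map_of_injective G.subtype_injective, Q.card_eq_multiplicity, hf]
    congr 1
    rw [natCard_stabG, show (35942400 : ℕ) = 2 ^ 12 * 8775 by norm_num,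
      Nat.factorization_mul_apply_of_coprime (by norm_num), Nat.Prime.factorization_pow Nat.prime_two,
      Nat.factorization_eq_zero_of_not_dvd (show ¬ 2 ∣ 8775 by norm_num)]
    simp
  obtain ⟨Qh⟩ : Nonempty (Sylow 2 (H.subgroupOf L)) := inferInstance
  have hQhc : Nat.card ((Qh : Subgroup (H.subgroupOf L)).map (H.subgroupOf L).subtype) = 2 ^ (Nat.card L).factorization 2 := by
    rw [Subgroup.card_map_of_injective (Subgroup.subtype_injective _), Qh.card_eq_multiplicity,
      Nat.card_congr (Subgroup.subgroupOfEquivOfLe hH).toEquiv, hc, natCard_stabG,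
      show (20480 : ℕ) = 2 ^ 12 * 5 by norm_num, show (35942400 : ℕ) = 2 ^ 12 * 8775 by norm_num,
      Nat.factorization_mul_apply_of_coprime (by norm_num), Nat.factorization_mul_apply_of_coprime (by norm_num),
      Nat.factorization_eq_zero_of_not_dvd (show ¬ 2 ∣ 8775 by norm_num),
      Nat.factorization_eq_zero_of_not_dvd (show ¬ 2 ∣ 5 by norm_num)]
  obtain ⟨l, hl⟩ := MulAction.exists_smul_eq L (Sylow.ofCard Q' hQc) (Sylow.ofCard _ hQhc)
  have hconj : ∀ q ∈ (Q : Subgroup G), l.1 * q.1 * l.1⁻¹ ∈ H := fun q hq => by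
    have hq' : (⟨q.1, q.2.1⟩ : L) ∈ Q' := ⟨q, hq, rfl⟩
    have hm : l * ⟨q.1, q.2.1⟩ * l⁻¹ ∈ (Qh : Subgroup (H.subgroupOf L)).map (H.subgroupOf L).subtype := by
      have e : (Sylow.ofCard Q' hQc).map (MulAut.conj l).toMonoidHom =
          (Sylow.ofCard _ hQhc : Subgroup L) := by rw [← hl]; rfl
      exact e.le ⟨_, hq', rfl⟩
    exact Subgroup.mem_subgroupOf.1 (Subgroup.map_subtype_le _ hm)
  set x := l.1 (pt 20) with hx
  have hxN : x ∈ NB := (mem_NB_smul l.2 _).2 twenty_mem
  -- the orbit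
  set O : Finset Pt := Finset.univ.filter fun y => y ∈ orbit H x with hO
  have hOc : (orbit H x).ncard = O.card := by
    rw [← Set.ncard_coe_finset]; congr 1; ext y; simp [hO]
  have h1 := card_stab_mul H x
  rw [hc, hOc] at h1
  have h4096 : 4096 ∣ Nat.card ↥(H ⊓ stabilizer (Equiv.Perm Pt) x) := by
    have hle : ((Q : Subgroup G).map G.subtype).map (MulAut.conj l.1).toMonoidHom ≤
        H ⊓ stabilizer (Equiv.Perm Pt) x := by
      rintro _ ⟨_, ⟨q, hq, rfl⟩, rfl⟩
      refine ⟨hconj q hq, ?_⟩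
      show l.1 (q.1 (l.1.symm (l.1 (pt 20)))) = l.1 (pt 20)
      rw [Equiv.symm_apply_apply, show q.1 (pt 20) = pt 20 from q.2.2]
    have := Subgroup.card_dvd_of_le hle
    rwa [Subgroup.card_map_of_injective (MulAut.conj l.1).injective,
      Subgroup.card_map_of_injective G.subtype_injective, Q.card_eq_multiplicity, hf] at this
  have hO15 : O.card = 1 ∨ O.card = 5 := by
    obtain ⟨k, hk⟩ := h4096
    rw [hk] at h1
    have : O.card ∣ 5 := ⟨k, by
      have : 4096 * (k * O.card) = 4096 * 5 := by rw [← mul_assoc, h1]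
      rw [mul_comm]; exact (Nat.eq_of_mul_eq_mul_left (by norm_num) this).symm⟩
    exact (Nat.dvd_prime (by norm_num)).1 this
  -- transport back
  set O' : Finset Pt := Finset.univ.filter fun y => l.1 y ∈ O with hO'
  have hO'c : O'.card = O.card :=
    Finset.card_bij (fun y _ => l.1 y) (fun y hy => (Finset.mem_filter.1 hy).2)
      (fun _ _ _ _ e => l.1.injective e)
      (fun z hz => ⟨l.1.symm z, Finset.mem_filter.2 ⟨Finset.mem_univ _, by rwa [Equiv.apply_symm_apply]⟩,
        Equiv.apply_symm_apply _ _⟩)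
  have hOinv : ∀ h ∈ H, ∀ y, h y ∈ O ↔ y ∈ O := fun h hh y => by
    simp only [hO, Finset.mem_filter, Finset.mem_univ, true_and]
    rw [← orbit_eq_iff, ← orbit_eq_iff (a := y), show h y = (⟨h, hh⟩ : H) • y from rfl, orbit_smul]
  have hinv : Inv sTwo O' := by
    intro s hs y
    obtain ⟨q, hq, e⟩ : ∃ q ∈ (Q : Subgroup G), q.1 = w s :=
      ⟨⟨w s, (sTwo_mem hs).2⟩, hQ (Subgroup.subset_closure ⟨s, hs, rfl⟩), rfl⟩
    simp only [hO', Finset.mem_filter, Finset.mem_univ, true_and]
    rw [← hOinv _ (hconj q hq) (l.1 y), e]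
    simp [Equiv.Perm.mul_apply]
  have hsub : O' ⊆ msk nbM := fun y hy => by
    have hy' := (Finset.mem_filter.1 (Finset.mem_filter.1 hy).2).2
    obtain ⟨h, e⟩ := hy'
    have : l.1 y ∈ NB := e ▸ (mem_NB_smul (hH h.2) _).2 hxN
    exact (mem_NB_smul l.2 y).1 this
  obtain ⟨m, hm, hOm⟩ := classes_cases (P := fun m c => !m.testBit 20 || !Nat.beq c 5) clS_ok hinv hsub
  have hxO : x ∈ O := Finset.mem_filter.2 ⟨Finset.mem_univ _, mem_orbit_self x⟩
  have h20 : pt 20 ∈ O' := Finset.mem_filter.2 ⟨Finset.mem_univ _, hxO⟩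
  have hcard : O.card = 1 := by
    refine hO15.resolve_right fun h5 => ?_
    rw [hOm, pt_mem_msk (by norm_num)] at h20
    rw [h20, hO'c, h5] at hm
    simp at hm
  refine ⟨x, hxN, fun h hh => ?_⟩
  obtain ⟨z, hz⟩ := Finset.card_eq_one.1 hcard
  have h2 : h x ∈ O := (hOinv h hh x).2 hxO
  rw [hz, Finset.mem_singleton] at h2 hxO
  rw [h2, ← hxO]

/-- The sets which may serve as common neighbours of two adjacent lines. -/
theorem near_set {S : Finset Pt} {μ : ℕ} (hS : S ⊆ NB) (h20 : pt 20 ∉ S)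
    (hinv : ∀ g ∈ L, g (pt 20) = pt 20 → ∀ y, g y ∈ S ↔ y ∈ S)
    (hμ : 1755 * (1754 - S.card) = 2304 * μ) :
    S.card = 1754 ∨ S.card = 730 ∧ ∀ y ∈ NB, (y ∈ S ↔ Orth (pt 20) y) := by
  have hI : Inv [[0], [1], [2]] S := by
    intro l hl y
    have hl' := (by decide +kernel : ∀ l ∈ [[0], [1], [2]], okL l = true ∧ E l 20 = 20) l hl
    exact hinv _ (w_mem hl'.1) (by rw [(app (okL_18 hl'.1) (by norm_num)).2, hl'.2]) y
  obtain ⟨m, hm, rfl⟩ := classes_cases (U := nbM ^^^ 2 ^ 20) (cl := clPn) (P := fun m c =>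
      !Nat.beq (1755 * (1754 - c) % 2304) 0 || Nat.beq c 1754 ||
        (Nat.beq c 730 && Nat.beq m ((adjTab.getD 0 (0, [], 0)).2.2 &&& nbM)))
      clP_ok hI fun y hy => by
    have h1 := hS hy
    rw [NB, mem_msk] at h1
    rw [mem_msk, Nat.testBit_xor, h1, Nat.testBit_two_pow]
    simp only [Bool.true_bne, Bool.not_eq_true', decide_eq_false_iff_not]
    intro e
    exact h20 (by rw [e, pt_val]; exact hy)
  simp only [Bool.or_eq_true, Bool.not_eq_true', Bool.and_eq_true, Nat.beq_eq] at hm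
  rcases hm with (hm | hm) | ⟨hm, hm'⟩
  · rw [hμ, Nat.mul_mod_right] at hm
    simp at hm
  · exact Or.inl hm
  · refine Or.inr ⟨hm, fun y hy => ?_⟩
    have h0 : ∃ e ∈ adjTab, e.1 = 20 ∧ adjTab.getD 0 (0, [], 0) = e := by
      have := adj_heads
      simp only [Bool.and_eq_true, Nat.beq_eq] at this
      refine ⟨_, ?_, this.1.1.1, rfl⟩
      rw [List.getD_eq_getElem _ _ (by decide +kernel)]
      exact List.getElem_mem _
    obtain ⟨e, he, he1, he2⟩ := h0
    rw [hm', he2, mem_msk, Nat.testBit_and, Bool.and_eq_true, ← mem_msk, ← mem_msk, ← he1,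
      ← orth_adjTab he y]
    exact and_iff_left hy

end Cfsg.Agent.RuRankThree
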