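import Cfsg.Agent.Lib.RuRankThree.Cases
import Cfsg.Agent.Lib.RuRankThree.Near

/-!
# Rank three groups on 4060 points with point stabiliser `²F₄(2)`

* `Setting`, `Setting.exists_nearMap`, `Setting.nonempty_mulEquiv` : the orbital graph is the Rudvalis graph
-/

set_option autoImplicit false

open scoped Pointwise

namespace Cfsg.Agent.RuRankThree

open MulAction Cfsg.Agent.RuPerm

attribute [local irreducible] NB FAR

section

variable {Ω : Type*} [Fintype Ω] [DecidableEq Ω] {G : Subgroup (Equiv.Perm Ω)}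
  {a b c : Ω}

open scoped Classical in
/-- The out-neighbours in the orbital of `(a, b)`. -/
noncomputable def outSet (G : Subgroup (Equiv.Perm Ω)) (a b x : Ω) : Finset Ω :=
  Finset.univ.filter fun y => ∃ g : G, g • a = x ∧ g • b = y

theorem mem_outSet {x y : Ω} : y ∈ outSet G a b x ↔ ∃ g : G, g • a = x ∧ g • b = y := by
  simp [outSet]

theorem mem_outSet_smul (g : G) {x y : Ω} :
    g • y ∈ outSet G a b (g • x) ↔ y ∈ outSet G a b x := by
  rw [mem_outSet, mem_outSet]
  constructor
  · rintro ⟨k, h1, h2⟩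
    exact ⟨g⁻¹ * k, by rw [mul_smul, h1, inv_smul_smul], by rw [mul_smul, h2, inv_smul_smul]⟩
  · rintro ⟨k, rfl, rfl⟩
    exact ⟨g * k, mul_smul .., mul_smul ..⟩

theorem mem_outSet_base {y : Ω} : y ∈ outSet G a b a ↔ y ∈ orbit (stabilizer G a) b := by
  rw [mem_outSet, mem_orbit_iff]
  exact ⟨fun ⟨g, h1, h2⟩ => ⟨⟨g, h1⟩, h2⟩, fun ⟨s, h⟩ => ⟨s.1, s.2, h⟩⟩

theorem not_self_mem_orbit {x : Ω} {n : ℕ} (h : (orbit (stabilizer G a) x).ncard = n) (hn : 1 < n) :
    a ∉ orbit (stabilizer G a) x := fun hm => by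
  have ha : orbit (stabilizer G a) a = {a} := by
    ext y
    simp only [mem_orbit_iff, Set.mem_singleton_iff]
    exact ⟨fun ⟨g, hg⟩ => hg.symm.trans g.2, fun e => ⟨1, by rw [one_smul, e]⟩⟩
  rw [← orbit_eq_iff.mpr hm, ha, Set.ncard_singleton] at h
  omega

/-- The data of a rank three action. -/
structure Setting (G : Subgroup (Equiv.Perm Ω)) (a b c : Ω) where
  /-- the number of points -/
  hΩ : Fintype.card Ω = 4060
  /-- the stabiliser -/
  ψ : stabilizer G a ≃* L
  /-- the first orbit -/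
  hb : (orbit (stabilizer G a) b).ncard = 1755
  /-- the second orbit -/
  hc : (orbit (stabilizer G a) c).ncard = 2304

namespace Setting

variable (D : Setting G a b c)

include D

theorem cases (y : Ω) :
    y = a ∨ y ∈ orbit (stabilizer G a) b ∨ y ∈ orbit (stabilizer G a) c := by
  classical
  have hab := not_self_mem_orbit D.hb (by norm_num)
  have hac := not_self_mem_orbit D.hc (by norm_num)
  have hbc : Disjoint (orbit (stabilizer G a) b) (orbit (stabilizer G a) c) :=
    Set.disjoint_left.mpr fun x hx hx' => by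
      have h1 := D.hb
      rw [← orbit_eq_iff.mpr hx, orbit_eq_iff.mpr hx', D.hc] at h1
      norm_num at h1
  have hU : (insert a (orbit (stabilizer G a) b ∪ orbit (stabilizer G a) c) : Set Ω) = Set.univ := by
    refine Set.eq_of_subset_of_ncard_le (Set.subset_univ _) ?_
    rw [Set.ncard_insert_of_notMem (by simp [hab, hac]), Set.ncard_union_eq hbc, D.hb, D.hc,
      Set.ncard_univ, Nat.card_eq_fintype_card, D.hΩ]
  have := hU ▸ Set.mem_univ y
  simpa using this

theorem not_mem_both {y : Ω} (h : y ∈ orbit (stabilizer G a) b)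
    (h' : y ∈ orbit (stabilizer G a) c) : False := by
  have h1 := D.hb
  rw [← orbit_eq_iff.mpr h, orbit_eq_iff.mpr h', D.hc] at h1
  norm_num at h1

variable [IsPretransitive G Ω]

include D

theorem card_out (x : Ω) : (outSet G a b x).card = 1755 := by
  obtain ⟨g, rfl⟩ := exists_smul_eq G a x
  have h0 : (outSet G a b a).card = 1755 := by
    rw [← D.hb, ← Set.ncard_coe_finset]
    congr 1
    ext y; simp [mem_outSet_base]
  rw [← h0]
  exact Finset.card_bij (fun y _ => g⁻¹ • y)
    (fun y hy => by rw [← mem_outSet_smul g, smul_inv_smul]; exact hy)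
    (fun _ _ _ _ e => MulAction.injective g⁻¹ e)
    fun y hy => ⟨g • y, (mem_outSet_smul g).2 hy, inv_smul_smul _ _⟩

theorem symm {x y : Ω} : y ∈ outSet G a b x ↔ x ∈ outSet G a b y := by
  classical
  suffices key : ∀ z, a ∈ outSet G a b z ↔ z ∈ outSet G a b a by
    obtain ⟨g, rfl⟩ := exists_smul_eq G a x
    rw [← smul_inv_smul g y, mem_outSet_smul, mem_outSet_smul, key]
  let I : Ω → Finset Ω := fun w => Finset.univ.filter fun z => w ∈ outSet G a b z
  have hI : ∀ w, (I w).card = (I a).card := fun w => by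
    obtain ⟨g, rfl⟩ := exists_smul_eq G a w
    exact Finset.card_bij (fun y _ => g⁻¹ • y)
      (fun y hy => Finset.mem_filter.2 ⟨Finset.mem_univ _, by
        rw [← mem_outSet_smul g, smul_inv_smul]; exact (Finset.mem_filter.1 hy).2⟩)
      (fun _ _ _ _ e => MulAction.injective g⁻¹ e)
      fun y hy => ⟨g • y, Finset.mem_filter.2 ⟨Finset.mem_univ _,
        (mem_outSet_smul g).2 (Finset.mem_filter.1 hy).2⟩, inv_smul_smul _ _⟩
  have hIa : (I a).card = 1755 := by
    have h := Finset.sum_card_bipartiteAbove_eq_sum_card_bipartiteBelow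
      (s := (Finset.univ : Finset Ω)) (t := Finset.univ) (fun x y => y ∈ outSet G a b x)
    have e1 : ∀ x, Finset.bipartiteAbove (fun x y => y ∈ outSet G a b x) Finset.univ x =
        outSet G a b x := fun x => by ext; simp [Finset.bipartiteAbove]
    have e2 : ∀ x, Finset.bipartiteBelow (fun x y => y ∈ outSet G a b x) Finset.univ x = I x :=
      fun x => rfl
    simp only [e1, e2, D.card_out, hI, Finset.sum_const, Finset.card_univ, D.hΩ, smul_eq_mul] at h
    omega
  have hinv : ∀ (s : stabilizer G a) (z : Ω), z ∈ I a → s • z ∈ I a := fun s z hz => by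
    refine Finset.mem_filter.2 ⟨Finset.mem_univ _, ?_⟩
    have := (mem_outSet_smul (s : G)).2 (Finset.mem_filter.1 hz).2
    rwa [show (s : G) • a = a from s.2] at this
  have hsub : I a ⊆ outSet G a b a := by
    intro z hz
    rcases D.cases z with rfl | h | h
    · exact absurd (mem_outSet_base.1 (Finset.mem_filter.1 hz).2)
        (not_self_mem_orbit D.hb (by norm_num))
    · exact mem_outSet_base.2 h
    · exfalso
      have hs : orbit (stabilizer G a) c ⊆ (I a : Set Ω) := by
        rw [← orbit_eq_iff.mpr h]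
        rintro _ ⟨s, rfl⟩
        exact hinv s z hz
      have := Set.ncard_le_ncard hs (Finset.finite_toSet _)
      rw [D.hc, Set.ncard_coe_finset, hIa] at this
      norm_num at this
  have heq := Finset.eq_of_subset_of_card_le hsub (by rw [hIa, D.card_out])
  intro z
  rw [← heq]
  simp [I]

/-- The adjacency of a rank three graph. -/
def R (_D : Setting G a b c) (x y : Ω) : Prop := y ∈ outSet G a b x

theorem self_not_mem (x : Ω) : x ∉ outSet G a b x := by
  obtain ⟨g, rfl⟩ := exists_smul_eq G a x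
  rw [mem_outSet_smul, mem_outSet_base]
  exact not_self_mem_orbit D.hb (by norm_num)

/-- The common neighbours. -/
noncomputable def com (_D : Setting G a b c) (x y : Ω) : Finset Ω :=
  outSet G a b x ∩ outSet G a b y

theorem card_com_smul (g : G) (x y : Ω) : (D.com (g • x) (g • y)).card = (D.com x y).card := by
  refine Finset.card_bij (fun z _ => g⁻¹ • z) (fun z hz => ?_)
    (fun _ _ _ _ e => MulAction.injective g⁻¹ e) fun z hz => ⟨g • z, ?_, inv_smul_smul _ _⟩
  · simp only [com, Finset.mem_inter] at hz ⊢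
    rw [← mem_outSet_smul g, ← mem_outSet_smul g (x := y), smul_inv_smul]
    exact hz
  · simp only [com, Finset.mem_inter] at hz ⊢
    rw [mem_outSet_smul, mem_outSet_smul]
    exact hz

theorem card_com_adj {x y : Ω} (h : y ∈ outSet G a b x) :
    (D.com x y).card = (D.com a b).card := by
  obtain ⟨g, rfl, rfl⟩ := mem_outSet.1 h
  exact D.card_com_smul g a b

theorem card_com_nonadj {x y : Ω} (h : y ∉ outSet G a b x) (hne : x ≠ y) :
    (D.com x y).card = (D.com a c).card := by
  obtain ⟨g, rfl⟩ := exists_smul_eq G a x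
  rw [← smul_inv_smul g y, mem_outSet_smul] at h
  rw [← smul_inv_smul g y, D.card_com_smul]
  rcases D.cases (g⁻¹ • y) with e | e | e
  · exact absurd (inv_smul_eq_iff.1 e).symm hne
  · exact absurd (mem_outSet_base.2 e) h
  · obtain ⟨s, hs⟩ := e
    rw [← hs]
    show (D.com a ((s : G) • c)).card = _
    have := D.card_com_smul s.1 a c
    rw [show (s : G) • a = a from s.2] at this
    exact this

end Setting

end

namespace Setting

variable {Ω : Type*} [Fintype Ω] [DecidableEq Ω] {G : Subgroup (Equiv.Perm Ω)}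
  [IsPretransitive G Ω] {a b c : Ω} (D : Setting G a b c)

include D

/-- The first neighbourhood. -/
noncomputable def near (_D : Setting G a b c) : Finset Ω := outSet G a b a

open scoped Classical in
/-- The second neighbourhood. -/
noncomputable def far (_D : Setting G a b c) : Finset Ω :=
  Finset.univ.filter fun z => z ∈ orbit (stabilizer G a) c

theorem mem_far {z : Ω} : z ∈ D.far ↔ z ∈ orbit (stabilizer G a) c := by simp [far]

theorem mem_near {z : Ω} : z ∈ D.near ↔ z ∈ orbit (stabilizer G a) b := mem_outSet_base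

theorem card_near : D.near.card = 1755 := D.card_out a

theorem card_far : D.far.card = 2304 := by
  rw [← D.hc, ← Set.ncard_coe_finset]
  congr 1
  ext z; simp [far]

theorem split_card (S : Finset Ω) :
    S.card = (if a ∈ S then 1 else 0) + (S ∩ D.near).card + (S ∩ D.far).card := by
  classical
  have hd : Disjoint (S ∩ D.near) (S ∩ D.far) := Finset.disjoint_left.2 fun z h1 h2 =>
    D.not_mem_both (D.mem_near.1 (Finset.mem_inter.1 h1).2) (D.mem_far.1 (Finset.mem_inter.1 h2).2)
  have ha : a ∉ S ∩ D.near ∪ S ∩ D.far := by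
    simp [D.mem_near, D.mem_far, not_self_mem_orbit D.hb (by norm_num),
      not_self_mem_orbit D.hc (by norm_num)]
  by_cases h : a ∈ S
  · have e : S = insert a (S ∩ D.near ∪ S ∩ D.far) := by
      ext z
      simp only [Finset.mem_insert, Finset.mem_union, Finset.mem_inter, D.mem_near, D.mem_far]
      refine ⟨fun hz => ?_, ?_⟩
      · rcases D.cases z with e | e | e
        exacts [Or.inl e, Or.inr (Or.inl ⟨hz, e⟩), Or.inr (Or.inr ⟨hz, e⟩)]
      · rintro (rfl | ⟨hz, -⟩ | ⟨hz, -⟩)
        exacts [h, hz, hz]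
    conv_lhs => rw [e]
    rw [Finset.card_insert_of_notMem ha, Finset.card_union_of_disjoint hd, if_pos h]
    omega
  · have e : S = S ∩ D.near ∪ S ∩ D.far := by
      ext z
      simp only [Finset.mem_union, Finset.mem_inter, D.mem_near, D.mem_far]
      refine ⟨fun hz => ?_, ?_⟩
      · rcases D.cases z with e | e | e
        exacts [absurd (e ▸ hz) h, Or.inl ⟨hz, e⟩, Or.inr ⟨hz, e⟩]
      · rintro (⟨hz, -⟩ | ⟨hz, -⟩) <;> exact hz
    conv_lhs => rw [e]
    rw [Finset.card_union_of_disjoint hd, if_neg h]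
    omega

/-- The first neighbourhood is the first suborbit of the model. -/
theorem exists_nearMap : ∃ f : Ω → Pt, (∀ y ∈ D.near, f y ∈ NB) ∧ Set.InjOn f D.near ∧
    D.near.image f = NB ∧ ∀ (s : stabilizer G a), ∀ y ∈ D.near, f (s • y) = (D.ψ s).1 (f y) := by
  classical
  set φ : stabilizer G a →* Equiv.Perm Pt := L.subtype.comp D.ψ.toMonoidHom with hφ
  have hφi : Function.Injective φ := Subtype.val_injective.comp D.ψ.injective
  set H := (stabilizer (stabilizer G a) b).map φ with hH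
  have hcard : Nat.card H = 20480 := by
    rw [← Nat.card_congr (Subgroup.equivMapOfInjective _ φ hφi).toEquiv]
    have h := (stabilizer (stabilizer G a) b).index_mul_card
    rw [index_stabilizer, D.hb, Nat.card_congr D.ψ.toEquiv, natCard_stabG] at h
    omega
  have hle : H ≤ L := by
    rintro _ ⟨s, -, rfl⟩; exact (D.ψ s).2
  obtain ⟨x, hx, hfix⟩ := exists_fixed hle hcard
  let f : Ω → Pt := fun y =>
    if h : ∃ s : stabilizer G a, s • b = y then φ h.choose x else pt 0
  have hf : ∀ s : stabilizer G a, f (s • b) = φ s x := fun s => by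
    have h : ∃ s' : stabilizer G a, s' • b = s • b := ⟨s, rfl⟩
    simp only [f, dif_pos h]
    have hm : s⁻¹ * h.choose ∈ stabilizer (stabilizer G a) b :=
      mem_stabilizer_iff.2 (by rw [mul_smul, h.choose_spec, inv_smul_smul])
    have := hfix _ ⟨_, hm, rfl⟩
    rw [map_mul, map_inv] at this
    exact (Equiv.Perm.inv_eq_iff_eq.1 this)
  have hmem : ∀ y ∈ D.near, f y ∈ NB := fun y hy => by
    obtain ⟨s, rfl⟩ := D.mem_near.1 hy
    exact (hf s).symm ▸ (mem_NB_smul (D.ψ s).2 x).2 hx
  have himg : D.near.image f = NB := by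
    refine Finset.Subset.antisymm (Finset.image_subset_iff.2 hmem) fun y hy => ?_
    obtain ⟨u, hu, hux⟩ := exists_NB hx
    obtain ⟨v, hv, hvy⟩ := exists_NB hy
    obtain ⟨s, hs⟩ := D.ψ.surjective ⟨v * u⁻¹, mul_mem hv (inv_mem hu)⟩
    refine Finset.mem_image.2 ⟨s • b, D.mem_near.2 ⟨s, rfl⟩, ?_⟩
    rw [hf]
    show (D.ψ s).1 x = y
    rw [hs]
    show v (u.symm x) = y
    rw [← hux, Equiv.symm_apply_apply, hvy]
  refine ⟨f, hmem, Finset.card_image_iff.1 (by rw [himg, card_NB, D.card_near]), himg,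
    fun s y hy => ?_⟩
  obtain ⟨t, rfl⟩ := D.mem_near.1 hy
  rw [← mul_smul, hf, hf, map_mul]
  rfl

theorem smul_mem_far (s : stabilizer G a) {z : Ω} (hz : z ∈ D.far) : s • z ∈ D.far := by
  rw [D.mem_far] at hz ⊢
  rw [← orbit_eq_iff.mpr hz]
  exact mem_orbit _ _

theorem smul_mem_near (s : stabilizer G a) {z : Ω} (hz : z ∈ D.near) : s • z ∈ D.near := by
  rw [D.mem_near] at hz ⊢
  rw [← orbit_eq_iff.mpr hz]
  exact mem_orbit _ _

theorem smul_mem_near_iff (s : stabilizer G a) (z : Ω) : s • z ∈ D.near ↔ z ∈ D.near :=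
  ⟨fun h => by have := D.smul_mem_near s⁻¹ h; rwa [inv_smul_smul] at this, D.smul_mem_near s⟩

theorem smul_mem_far_iff (s : stabilizer G a) (z : Ω) : s • z ∈ D.far ↔ z ∈ D.far :=
  ⟨fun h => by have := D.smul_mem_far s⁻¹ h; rwa [inv_smul_smul] at this, D.smul_mem_far s⟩

omit [IsPretransitive G Ω] in
theorem out_smul (s : stabilizer G a) {x y : Ω} : s • y ∈ outSet G a b (s • x) ↔ y ∈ outSet G a b x :=
  mem_outSet_smul s.1

theorem card_meet_smul (s : stabilizer G a) (x : Ω) :
    (outSet G a b (s • x) ∩ D.near).card = (outSet G a b x ∩ D.near).card := by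
  refine (Finset.card_bij (fun y _ => s • y) (fun y hy => ?_) (fun _ _ _ _ e => MulAction.injective s e)
    fun z hz => ⟨s⁻¹ • z, ?_, smul_inv_smul _ _⟩).symm
  · rw [Finset.mem_inter] at hy ⊢
    exact ⟨(D.out_smul s).2 hy.1, D.smul_mem_near s hy.2⟩
  · rw [Finset.mem_inter] at hz ⊢
    refine ⟨(D.out_smul s).1 ?_, (D.smul_mem_near_iff s _).1 ?_⟩ <;> rw [smul_inv_smul]
    exacts [hz.1, hz.2]

theorem a_not_near : a ∉ D.near := fun h => not_self_mem_orbit D.hb (by norm_num) (D.mem_near.1 h)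

theorem a_not_far : a ∉ D.far := fun h => not_self_mem_orbit D.hc (by norm_num) (D.mem_far.1 h)

theorem far_not_near {z : Ω} (hz : z ∈ D.far) : z ∉ D.near := fun h =>
  D.not_mem_both (D.mem_near.1 h) (D.mem_far.1 hz)

variable {f : Ω → Pt} (hmem : ∀ y ∈ D.near, f y ∈ NB) (hinj : Set.InjOn f D.near)
  (himg : D.near.image f = NB)
  (heq : ∀ (s : stabilizer G a), ∀ y ∈ D.near, f (s • y) = (D.ψ s).1 (f y))

include hmem hinj himg heq

/-- The number of common neighbours and the adjacency in the first neighbourhood. -/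
theorem params : (∀ z ∈ D.far, (outSet G a b z ∩ D.near).card = 780) ∧
    ∀ y ∈ D.near, ∀ y' ∈ D.near, (y' ∈ outSet G a b y ↔ Orth (f y) (f y')) := by
  classical
  obtain ⟨y0, hy0, hf0⟩ := Finset.mem_image.1 (show pt 20 ∈ D.near.image f from himg ▸ twenty_mem)
  have hcf : c ∈ D.far := D.mem_far.2 (mem_orbit_self c)
  set lam := (outSet G a b y0 ∩ D.near).card with hlam
  set mu := (outSet G a b c ∩ D.near).card with hmu
  have hlam' : ∀ y ∈ D.near, (outSet G a b y ∩ D.near).card = lam := fun y hy => by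
    obtain ⟨t, rfl⟩ := D.mem_near.1 hy
    obtain ⟨u, rfl⟩ := D.mem_near.1 hy0
    rw [hlam, D.card_meet_smul, D.card_meet_smul]
  have hmu' : ∀ z ∈ D.far, (outSet G a b z ∩ D.near).card = mu := fun z hz => by
    obtain ⟨t, rfl⟩ := D.mem_far.1 hz
    rw [hmu, D.card_meet_smul]
  have hfar : ∀ y ∈ D.near, (outSet G a b y ∩ D.far).card + lam = 1754 := fun y hy => by
    have h := D.split_card (outSet G a b y)
    rw [D.card_out, if_pos (D.symm.1 hy), hlam' y hy] at h
    omega
  have hle : lam ≤ 1754 := by have := hfar y0 hy0; omega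
  have hcount : 1755 * (1754 - lam) = 2304 * mu := by
    have h := Finset.sum_card_bipartiteAbove_eq_sum_card_bipartiteBelow
      (s := D.near) (t := D.far) (fun x y => y ∈ outSet G a b x)
    have e1 : ∀ y ∈ D.near,
        (Finset.bipartiteAbove (fun x y => y ∈ outSet G a b x) D.far y).card = 1754 - lam := fun y hy => by
      have := hfar y hy
      rw [← show (outSet G a b y ∩ D.far).card = 1754 - lam by omega]
      congr 1
      ext z
      rw [Finset.mem_bipartiteAbove, Finset.mem_inter, and_comm]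
    have e2 : ∀ z ∈ D.far,
        (Finset.bipartiteBelow (fun x y => y ∈ outSet G a b x) D.near z).card = mu := fun z hz => by
      rw [← hmu' z hz]
      congr 1
      ext y
      rw [Finset.mem_bipartiteBelow, Finset.mem_inter, D.symm, and_comm]
    rw [Finset.sum_congr rfl e1, Finset.sum_congr rfl e2, Finset.sum_const, Finset.sum_const, D.card_near,
      D.card_far, smul_eq_mul, smul_eq_mul] at h
    exact h
  set S := (outSet G a b y0 ∩ D.near).image f with hS
  have hSc : S.card = lam :=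
    Finset.card_image_of_injOn fun y hy y' hy' e =>
      hinj (Finset.mem_inter.1 hy).2 (Finset.mem_inter.1 hy').2 e
  have hSN : S ⊆ NB := Finset.image_subset_iff.2 fun y hy => hmem y (Finset.mem_inter.1 hy).2
  have hS20 : pt 20 ∉ S := fun h => by
    obtain ⟨y, hy, e⟩ := Finset.mem_image.1 h
    obtain ⟨h1, h2⟩ := Finset.mem_inter.1 hy
    rw [hinj h2 hy0 (e.trans hf0.symm)] at h1
    exact D.self_not_mem y0 h1
  have hSinv : ∀ g ∈ L, g (pt 20) = pt 20 → ∀ p, g p ∈ S ↔ p ∈ S := fun g hg hg20 p => by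
    have key : ∀ g ∈ L, g (pt 20) = pt 20 → ∀ p ∈ S, g p ∈ S := fun g hg hg20 p hp => by
      obtain ⟨y, hy, rfl⟩ := Finset.mem_image.1 hp
      obtain ⟨h1, h2⟩ := Finset.mem_inter.1 hy
      obtain ⟨s, hs⟩ := D.ψ.surjective ⟨g, hg⟩
      have hs0 : s • y0 = y0 := hinj (D.smul_mem_near s hy0) hy0 (by rw [heq s y0 hy0, hs, hf0]; exact hg20)
      refine Finset.mem_image.2 ⟨s • y, Finset.mem_inter.2 ⟨?_, D.smul_mem_near s h2⟩, by rw [heq s y h2, hs]⟩
      rw [← hs0]; exact (D.out_smul s).2 h1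
    refine ⟨fun h => ?_, key g hg hg20 p⟩
    have := key g⁻¹ (inv_mem hg) (by rw [Equiv.Perm.inv_eq_iff_eq, hg20]) _ h
    rwa [show g⁻¹ (g p) = p from g.symm_apply_apply p] at this
  rcases near_set hSN hS20 hSinv (hSc.symm ▸ hcount) with h | ⟨h, hadj⟩
  · exfalso
    rw [hSc] at h
    let B : Ω → Finset Ω := fun x => insert x (outSet G a b x)
    have hBc : ∀ x, (B x).card = 1756 := fun x => by
      rw [Finset.card_insert_of_notMem (D.self_not_mem x), D.card_out]
    have hBa : ∀ y ∈ B a, B y = B a := fun y hy => by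
      refine Finset.eq_of_subset_of_card_le (fun u hu => ?_) (by rw [hBc, hBc])
      rcases Finset.mem_insert.1 hy with rfl | hy
      · exact hu
      rcases Finset.mem_insert.1 hu with rfl | hu
      · exact Finset.mem_insert_of_mem hy
      rcases D.cases u with rfl | e | e
      · exact Finset.mem_insert_self _ _
      · exact Finset.mem_insert_of_mem (D.mem_near.2 e)
      · exfalso
        have h2 := hfar y hy
        rw [h] at h2
        replace h2 := Finset.card_eq_zero.1 (show (outSet G a b y ∩ D.far).card = 0 by omega)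
        exact absurd (Finset.mem_inter.2 ⟨hu, D.mem_far.2 e⟩) (by rw [h2]; exact Finset.notMem_empty u)
    have hB : ∀ x, ∀ y ∈ B x, B y = B x := by
      intro x y hy
      obtain ⟨g, rfl⟩ := exists_smul_eq G a x
      have hs : ∀ x' u, g • u ∈ B (g • x') ↔ u ∈ B x' := fun x' u => by
        simp only [B, Finset.mem_insert, mem_outSet_smul, (MulAction.injective g).eq_iff]
      rw [← smul_inv_smul g y, hs] at hy
      ext u
      rw [← smul_inv_smul g u, ← smul_inv_smul g y, hs, hs, hBa _ hy]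
    have hd : ∀ x y, y ∉ B x → Disjoint (B x) (B y) := fun x y hy => Finset.disjoint_left.2 fun u h1 h2 => by
      exact hy (by rw [← hB x u h1, hB y u h2]; exact Finset.mem_insert_self _ _)
    obtain ⟨z, hz⟩ := Finset.exists_mem_notMem_of_card_lt_card (s := B a) (t := Finset.univ)
      (by rw [hBc, Finset.card_univ, D.hΩ]; norm_num)
    have hd1 := hd a z hz.2
    obtain ⟨z', hz'⟩ := Finset.exists_mem_notMem_of_card_lt_card (s := B a ∪ B z) (t := Finset.univ)
      (by rw [Finset.card_union_of_disjoint hd1, hBc, hBc, Finset.card_univ, D.hΩ]; norm_num)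
    rw [Finset.mem_union, not_or] at hz'
    have hd2 : Disjoint (B a ∪ B z) (B z') :=
      Finset.disjoint_union_left.2 ⟨hd a z' hz'.2.1, hd z z' hz'.2.2⟩
    have := Finset.card_le_univ (B a ∪ B z ∪ B z')
    rw [Finset.card_union_of_disjoint hd2, Finset.card_union_of_disjoint hd1, hBc, hBc, hBc, D.hΩ] at this
    norm_num at this
  · rw [hSc] at h
    refine ⟨fun z hz => by rw [hmu' z hz]; omega, fun y hy y' hy' => ?_⟩
    obtain ⟨t, rfl⟩ := D.mem_near.1 hy
    obtain ⟨u, hu⟩ := D.mem_near.1 hy0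
    set s := t * u⁻¹ with hs
    have e : t • b = s • y0 := by rw [hs, ← hu, mul_smul]; show _ = t • (u⁻¹ • (u • b)); rw [inv_smul_smul]
    have hy'' : s⁻¹ • y' ∈ D.near := (D.smul_mem_near_iff s _).1 (by rwa [smul_inv_smul])
    show y' ∈ outSet G a b (t • b) ↔ Orth (f (t • b)) (f y')
    rw [e, ← smul_inv_smul s y', D.out_smul, heq s y0 hy0, heq s _ hy'', orth_smul (L_le_rud (D.ψ s).2), hf0,
      ← hadj _ (hmem _ hy'')]
    constructor
    · exact fun h => Finset.mem_image.2 ⟨_, Finset.mem_inter.2 ⟨h, hy''⟩, rfl⟩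
    · intro h
      obtain ⟨v, hv, e⟩ := Finset.mem_image.1 h
      obtain ⟨h1, h2⟩ := Finset.mem_inter.1 hv
      rwa [← hinj h2 hy'' e]

/-- The far points correspond to the far lines. -/
theorem exists_farMap : ∃ ι : Ω → Pt, (∀ z ∈ D.far, ι z ∈ FAR) ∧ Set.InjOn ι D.far ∧
    (∀ z ∈ D.far, ∀ y ∈ D.near, (y ∈ outSet G a b z ↔ Orth (ι z) (f y))) ∧
    ∀ z ∈ D.far, ∀ z' ∈ D.far, (z' ∈ outSet G a b z ↔ Orth (ι z) (ι z')) := by
  classical
  obtain ⟨h780, -⟩ := D.params hmem hinj himg heq
  let tr : Ω → Finset Pt := fun z => (outSet G a b z ∩ D.near).image f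
  have htrc : ∀ z ∈ D.far, (tr z).card = 780 := fun z hz => by
    rw [← h780 z hz]
    exact Finset.card_image_of_injOn fun y hy y' hy' e =>
      hinj (Finset.mem_inter.1 hy).2 (Finset.mem_inter.1 hy').2 e
  have htrN : ∀ z, tr z ⊆ NB := fun z =>
    Finset.image_subset_iff.2 fun y hy => hmem y (Finset.mem_inter.1 hy).2
  have htrs : ∀ (s : stabilizer G a) z p, (D.ψ s).1 p ∈ tr (s • z) ↔ p ∈ tr z := by
    have key : ∀ (s : stabilizer G a) z p, p ∈ tr z → (D.ψ s).1 p ∈ tr (s • z) := fun s z p hp => by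
      obtain ⟨y, hy, rfl⟩ := Finset.mem_image.1 hp
      obtain ⟨h1, h2⟩ := Finset.mem_inter.1 hy
      exact Finset.mem_image.2 ⟨s • y, Finset.mem_inter.2 ⟨(D.out_smul s).2 h1, D.smul_mem_near s h2⟩,
        heq s y h2⟩
    refine fun s z p => ⟨fun h => ?_, key s z p⟩
    have := key s⁻¹ _ _ h
    rwa [inv_smul_smul, map_inv, show ((D.ψ s)⁻¹ : L).1 ((D.ψ s).1 p) = p from (D.ψ s).1.symm_apply_apply p] at this
  set φ : stabilizer G a →* Equiv.Perm Pt := L.subtype.comp D.ψ.toMonoidHom with hφ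
  have hφi : Function.Injective φ := Subtype.val_injective.comp D.ψ.injective
  have hex : ∀ z ∈ D.far, ∃ q ∈ FAR, tr z = star' q := by
    intro z hz
    refine exists_star (H := (stabilizer (stabilizer G a) z).map φ) ?_ ?_ (htrN z) (htrc z hz) ?_
    · rintro _ ⟨s, -, rfl⟩; exact (D.ψ s).2
    · rw [← Nat.card_congr (Subgroup.equivMapOfInjective _ φ hφi).toEquiv]
      have h := (stabilizer (stabilizer G a) z).index_mul_card
      rw [index_stabilizer, orbit_eq_iff.mpr (D.mem_far.1 hz), D.hc, Nat.card_congr D.ψ.toEquiv,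
        natCard_stabG] at h
      omega
    · rintro _ ⟨s, hs, rfl⟩ p
      have := htrs s z p
      rwa [mem_stabilizer_iff.1 hs] at this
  let ι : Ω → Pt := fun z => if h : ∃ q ∈ FAR, tr z = star' q then h.choose else pt 0
  have hι : ∀ z ∈ D.far, ι z ∈ FAR ∧ tr z = star' (ι z) := fun z hz => by
    simp only [ι, dif_pos (hex z hz)]
    exact (hex z hz).choose_spec
  have hιs : ∀ (s : stabilizer G a), ∀ z ∈ D.far, ι (s • z) = (D.ψ s).1 (ι z) := fun s z hz => by
    have hsz := D.smul_mem_far s hz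
    refine star_inj (hι _ hsz).1 ((mem_FAR_smul (D.ψ s).2 _).2 (hι z hz).1) ?_
    ext p
    rw [← (hι _ hsz).2, ← (D.ψ s).1.apply_symm_apply p, star_smul (D.ψ s).2, ← (hι z hz).2, htrs]
  have himgι : D.far.image ι = FAR := by
    refine Finset.Subset.antisymm (Finset.image_subset_iff.2 fun z hz => (hι z hz).1) fun q hq => ?_
    have hcf : c ∈ D.far := D.mem_far.2 (mem_orbit_self c)
    obtain ⟨u, hu, hu1⟩ := exists_FAR (hι c hcf).1
    obtain ⟨v, hv, hv1⟩ := exists_FAR hq
    obtain ⟨s, hs⟩ := D.ψ.surjective ⟨v * u⁻¹, mul_mem hv (inv_mem hu)⟩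
    refine Finset.mem_image.2 ⟨s • c, D.smul_mem_far s hcf, ?_⟩
    rw [hιs s c hcf, hs]
    show v (u.symm (ι c)) = q
    rw [← hu1, Equiv.symm_apply_apply, hv1]
  have hinjι : Set.InjOn ι D.far := Finset.card_image_iff.1 (by rw [himgι, card_FAR, D.card_far])
  refine ⟨ι, fun z hz => (hι z hz).1, hinjι, fun z hz y hy => ?_, fun z hz z' hz' => ?_⟩
  · constructor
    · intro h
      have : f y ∈ tr z := Finset.mem_image.2 ⟨y, Finset.mem_inter.2 ⟨h, hy⟩, rfl⟩
      rw [(hι z hz).2, mem_star] at this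
      exact this.2
    · intro h
      have : f y ∈ tr z := by rw [(hι z hz).2, mem_star]; exact ⟨hmem y hy, h⟩
      obtain ⟨v, hv, e⟩ := Finset.mem_image.1 this
      obtain ⟨h1, h2⟩ := Finset.mem_inter.1 hv
      rwa [← hinj h2 hy e]
  obtain ⟨z0, hz0, hι0⟩ := Finset.mem_image.1 (show pt 1 ∈ D.far.image ι from himgι ▸ one_mem_FAR)
  suffices key : ∀ z' ∈ D.far, (z' ∈ outSet G a b z0 ↔ Orth (pt 1) (ι z')) by
    obtain ⟨t, rfl⟩ := D.mem_far.1 hz
    obtain ⟨u, hu⟩ := D.mem_far.1 hz0
    set s := t * u⁻¹ with hs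
    have e : t • c = s • z0 := by rw [hs, ← hu, mul_smul]; show _ = t • (u⁻¹ • (u • c)); rw [inv_smul_smul]
    have hz'' : s⁻¹ • z' ∈ D.far := (D.smul_mem_far_iff s _).1 (by rwa [smul_inv_smul])
    show z' ∈ outSet G a b (t • c) ↔ Orth (ι (t • c)) (ι z')
    rw [e, ← smul_inv_smul s z', D.out_smul, hιs s z0 hz0, hιs s _ hz'', orth_smul (L_le_rud (D.ψ s).2), hι0]
    exact key _ hz''
  set N := outSet G a b z0 ∩ D.far with hN
  have hNc : N.card = 975 := by
    have h := D.split_card (outSet G a b z0)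
    have ha : a ∉ outSet G a b z0 := fun h' => D.far_not_near hz0 (D.symm.1 h')
    rw [D.card_out, if_neg ha, h780 z0 hz0, ← hN] at h
    omega
  set S := N.image ι with hS
  have hSc : S.card = 975 := by
    rw [hS, Finset.card_image_of_injOn (fun y hy y' hy' e =>
      hinjι (Finset.mem_inter.1 hy).2 (Finset.mem_inter.1 hy').2 e), hNc]
  have hS1 : pt 1 ∉ S := fun h => by
    obtain ⟨y, hy, e⟩ := Finset.mem_image.1 h
    obtain ⟨h1, h2⟩ := Finset.mem_inter.1 hy
    rw [hinjι h2 hz0 (e.trans hι0.symm)] at h1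
    exact D.self_not_mem z0 h1
  have hSF : S ⊆ FAR := Finset.image_subset_iff.2 fun y hy => (hι y (Finset.mem_inter.1 hy).2).1
  have hSinv : ∀ g ∈ L, g (pt 1) = pt 1 → ∀ p, g p ∈ S ↔ p ∈ S := fun g hg hg1 p => by
    have key : ∀ g ∈ L, g (pt 1) = pt 1 → ∀ p ∈ S, g p ∈ S := fun g hg hg1 p hp => by
      obtain ⟨y, hy, rfl⟩ := Finset.mem_image.1 hp
      obtain ⟨h1, h2⟩ := Finset.mem_inter.1 hy
      obtain ⟨s, hs⟩ := D.ψ.surjective ⟨g, hg⟩
      have hs0 : s • z0 = z0 :=
        hinjι (D.smul_mem_far s hz0) hz0 (by rw [hιs s z0 hz0, hs, hι0]; exact hg1)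
      refine Finset.mem_image.2 ⟨s • y, Finset.mem_inter.2 ⟨?_, D.smul_mem_far s h2⟩, by rw [hιs s y h2, hs]⟩
      rw [← hs0]; exact (D.out_smul s).2 h1
    refine ⟨fun h => ?_, key g hg hg1 p⟩
    have := key g⁻¹ (inv_mem hg) (by rw [Equiv.Perm.inv_eq_iff_eq, hg1]) _ h
    rwa [show g⁻¹ (g p) = p from g.symm_apply_apply p] at this
  intro z' hz'
  rw [← far_set hSF hS1 hSc hSinv _ (hι z' hz').1]
  constructor
  · exact fun h => Finset.mem_image.2 ⟨z', Finset.mem_inter.2 ⟨h, hz'⟩, rfl⟩
  · intro h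
    obtain ⟨v, hv, e⟩ := Finset.mem_image.1 h
    obtain ⟨h1, h2⟩ := Finset.mem_inter.1 hv
    rwa [← hinjι h2 hz' e]

omit hmem hinj himg heq in
include D in
/-- The group is the Rudvalis group. -/
theorem nonempty_mulEquiv : Nonempty (G ≃* rud) := by
  classical
  obtain ⟨f, hmem, hinj, himg, heq⟩ := D.exists_nearMap
  obtain ⟨-, hnn⟩ := D.params hmem hinj himg heq
  obtain ⟨ι, hιm, hιi, hfn, hff⟩ := D.exists_farMap hmem hinj himg heq
  let φ : Ω → Pt := fun y => if y = a then pt 0 else if y ∈ D.near then f y else ι y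
  have hφa : φ a = pt 0 := if_pos rfl
  have hane : ∀ y ∈ D.near, y ≠ a := fun y hy e => D.a_not_near (e ▸ hy)
  have hafar : ∀ y ∈ D.far, y ≠ a := fun y hy e => D.a_not_far (e ▸ hy)
  have hφn : ∀ y ∈ D.near, φ y = f y := fun y hy => by simp [φ, hane y hy, hy]
  have hφf : ∀ y ∈ D.far, φ y = ι y := fun y hy => by simp [φ, hafar y hy, D.far_not_near hy]
  have hcases : ∀ y, y = a ∨ y ∈ D.near ∨ y ∈ D.far := fun y => by
    rcases D.cases y with e | e | e
    exacts [Or.inl e, Or.inr (Or.inl (D.mem_near.2 e)), Or.inr (Or.inr (D.mem_far.2 e))]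
  have hφi : Function.Injective φ := by
    intro y y' e
    rcases hcases y with rfl | hy | hy <;> rcases hcases y' with h' | hy' | hy'
    · exact h'.symm
    · rw [hφa, hφn y' hy'] at e; exact absurd (e ▸ hmem y' hy') zero_not_NB
    · rw [hφa, hφf y' hy'] at e; exact absurd (e ▸ hιm y' hy') zero_not_FAR
    · rw [h', hφa, hφn y hy] at e; exact absurd (e ▸ hmem y hy) zero_not_NB
    · rw [hφn y hy, hφn y' hy'] at e; exact hinj hy hy' e
    · rw [hφn y hy, hφf y' hy'] at e; exact absurd (e ▸ hmem y hy) (not_NB_of_FAR (hιm y' hy'))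
    · rw [h', hφa, hφf y hy] at e; exact absurd (e ▸ hιm y hy) zero_not_FAR
    · rw [hφf y hy, hφn y' hy'] at e; exact absurd (e ▸ hmem y' hy') (not_NB_of_FAR (e ▸ hιm y hy))
    · rw [hφf y hy, hφf y' hy'] at e; exact hιi hy hy' e
  have hφb : Function.Bijective φ :=
    (Fintype.bijective_iff_injective_and_card φ).2 ⟨hφi, by rw [D.hΩ, Fintype.card_fin]⟩
  have hR : ∀ y y', y' ∈ outSet G a b y ↔ Orth (φ y) (φ y') := by
    intro y y'
    rcases hcases y with rfl | hy | hy <;> rcases hcases y' with h' | hy' | hy'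
    · subst h'; rw [hφa, orth_zero]; exact iff_of_false (D.self_not_mem _) zero_not_NB
    · rw [hφa, hφn y' hy', orth_zero]; exact iff_of_true hy' (hmem y' hy')
    · rw [hφa, hφf y' hy', orth_zero]
      exact iff_of_false (D.far_not_near hy') (not_NB_of_FAR (hιm y' hy'))
    · subst h'; rw [hφa, hφn y hy, orth_symm, orth_zero, D.symm]; exact iff_of_true hy (hmem y hy)
    · rw [hφn y hy, hφn y' hy']; exact hnn y hy y' hy'
    · rw [hφn y hy, hφf y' hy', orth_symm, D.symm]; exact hfn y' hy' y hy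
    · subst h'; rw [hφa, hφf y hy, orth_symm, orth_zero, D.symm]
      exact iff_of_false (D.far_not_near hy) (not_NB_of_FAR (hιm y hy))
    · rw [hφf y hy, hφn y' hy']; exact hfn y hy y' hy'
    · rw [hφf y hy, hφf y' hy']; exact hff y hy y' hy'
  let e : Ω ≃ Pt := Equiv.ofBijective φ hφb
  let Φ : G →* Equiv.Perm Pt := e.permCongrHom.toMonoidHom.comp G.subtype
  have hΦi : Function.Injective Φ := e.permCongrHom.injective.comp Subtype.val_injective
  have hΦ : ∀ (g : G) (y : Ω), Φ g (φ y) = φ (g • y) := fun g y => by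
    show e (g.1 (e.symm (e y))) = e (g.1 y)
    rw [Equiv.symm_apply_apply]
  have hΦa : Φ.range ≤ rud := by
    rw [rud_eq]
    rintro _ ⟨g, rfl⟩ i j
    obtain ⟨y, rfl⟩ := hφb.2 i
    obtain ⟨y', rfl⟩ := hφb.2 j
    rw [hΦ, hΦ, ← hR, ← hR, mem_outSet_smul]
  have hcard : Nat.card G = Nat.card rud := by
    have h := (stabilizer G a).index_mul_card
    rw [index_stabilizer_of_transitive, Nat.card_eq_fintype_card, D.hΩ,
      Nat.card_congr D.ψ.toEquiv, natCard_stabG] at h
    rw [natCard_rud]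
    omega
  have hrc : Φ.range = rud :=
    Subgroup.eq_of_le_of_card_ge hΦa (by rw [← Nat.card_congr (MonoidHom.ofInjective hΦi).toEquiv, hcard])
  exact ⟨(MonoidHom.ofInjective hΦi).trans (MulEquiv.subgroupCongr hrc)⟩

end Setting

end Cfsg.Agent.RuRankThree
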