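import Cfsg.Agent.Lib.RuRankThree.Far
import Cfsg.Agent.Lib.Twisted.Tits

/-!
# The stabiliser of a line is the Ree group over the field with two elements

* `nonempty_equiv` : `L ≃* ²F₄(2)`
-/

set_option autoImplicit false
set_option maxRecDepth 100000
set_option linter.unusedSectionVars false

namespace Cfsg.Agent.RuRankThree

open Cfsg.Agent.StabCert Cfsg.Agent.RuPerm MulAction Cfsg.Agent.BitMat Matrix
open Cfsg.Agent.Twisted.Tits (T2 gT eI genB gen_top card_T2 coe_gen0 genB_eq GF)
open Cfsg.Lie (chevF4)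

attribute [local irreducible] nbM farM vTab imgT preT

/-- The bit vector of a line of the first suborbit. -/
def vv (x : ℕ) : ℕ := chunk 64 vTab x

/-- A bit vector as a vector. -/
def vec52 (v : ℕ) : chevF4.Idx → ZMod 2 := fun i => bitVal v (eI i)

/-- The matrix of an element. -/
noncomputable def matOf (t : T2) : Matrix chevF4.Idx chevF4.Idx (ZMod 2) := ((t.1 : GF) : Matrix _ _ _)

/-- The image under a bit matrix, with forced intermediate values. -/
def appF : List ℕ → ℕ → ℕ
  | [], _ => 0
  | c :: cs, v => onNat (v >>> 1) fun v' => onNat (appF cs v') fun r =>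
    if v.testBit 0 then c ^^^ r else r

theorem appF_eq : ∀ (B : List ℕ) (v : ℕ), appF B v = appB B v
  | [], _ => rfl
  | c :: cs, v => by
    rw [appF, appB, onNat_eq, onNat_eq, appF_eq cs]
    split_ifs <;> simp

/-- The equivariance check for one generator. -/
def moveOK (k : ℕ) : Bool := (List.range 4060).all fun x =>
  !nbM.testBit x || onNat (vv x) fun v =>
    Nat.beq (appF (Cfsg.Agent.Twisted.Tits.genB (Fin.ofNat 4 k)) v) (vv (E (imgT.getD k []) x))

theorem vv_move0 : moveOK 0 = true := by decide +kernel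

theorem vv_move1 : moveOK 1 = true := by decide +kernel

theorem vv_move2 : moveOK 2 = true := by decide +kernel

theorem vv_move3 : moveOK 3 = true := by decide +kernel

theorem vv_move {k : ℕ} (hk : k < 4) : moveOK k = true := by
  interval_cases k
  exacts [vv_move0, vv_move1, vv_move2, vv_move3]

theorem vv_sep : ((List.range 4060).all fun x => !nbM.testBit x || Nat.beq x 20 ||
    (!Nat.beq (vv x) (vv 20) && Nat.blt (vv x) (2 ^ 52) && Nat.blt (vv 20) (2 ^ 52))) = true := by
  decide +kernel

theorem imgT_ok : ((List.range 4).all fun k => okL (imgT.getD k [])) = true := by decide +kernel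

/-- Words in the generators and their inverses. -/
def preWord (l : List ℕ) : List ℕ :=
  l.flatMap fun s => if s < 4 then imgT.getD s [] else winv (imgT.getD (s - 4) [])

theorem preT_ok : ((List.range 4).all fun k => same (preWord (preT.getD k [])) [k] &&
    (preT.getD k []).all fun s => Nat.blt s 8) = true := by decide +kernel

theorem toMat_mulVec {B : List ℕ} (hB : B.length = 52) (v : ℕ) :
    toMat eI B *ᵥ vec52 v = vec52 (appB B v) := by
  funext i
  simp only [Matrix.mulVec, dotProduct, vec52, toMat]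
  rw [bitVal_appB, hB, ← Fin.sum_univ_eq_sum_range (fun j => bitVal (B.getD j 0) (eI i) * bitVal v j)]
  exact Fintype.sum_equiv eI _ _ fun j => rfl

theorem matOf_mul (s t : T2) : matOf (s * t) = matOf s * matOf t := by simp [matOf]

/-- The graph of the isomorphism. -/
noncomputable def graph : Subgroup (T2 × L) where
  carrier := {p | ∀ x ∈ NB, matOf p.1 *ᵥ vec52 (vv x.val) = vec52 (vv (p.2.1 x).val)}
  one_mem' := fun x _ => by simp [matOf]
  mul_mem' := fun {a b} ha hb x hx => by
    rw [Prod.fst_mul, matOf_mul, ← Matrix.mulVec_mulVec, hb x hx, ha _ ((mem_NB_smul b.2.2 x).2 hx)]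
    rfl
  inv_mem' := fun {a} ha x hx => by
    have h := ha (a.2.1.symm x) ((mem_NB_smul a.2.2 _).1 (by rwa [Equiv.apply_symm_apply]))
    rw [Equiv.apply_symm_apply] at h
    rw [← h, Matrix.mulVec_mulVec, Prod.fst_inv, ← matOf_mul, inv_mul_cancel,
      show matOf 1 = 1 by simp [matOf], Matrix.one_mulVec]
    rfl

/-- The images of the generators. -/
noncomputable def imgL (k : Fin 4) : L :=
  ⟨w (imgT.getD k.val []), w_mem (by
    have h := imgT_ok
    simp only [List.all_eq_true, List.mem_range] at h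
    exact h k.val k.isLt)⟩

theorem gen_graph (k : Fin 4) : (gT k, imgL k) ∈ graph := by
  intro x hx
  have hi := imgT_ok
  simp only [List.all_eq_true, List.mem_range] at hi
  have hE := app (okL_18 (hi k.val k.isLt)) x.isLt
  have h := vv_move k.isLt
  simp only [moveOK, List.all_eq_true, List.mem_range, Bool.or_eq_true, Bool.not_eq_true', Nat.beq_eq, onNat_eq, appF_eq] at h
  rcases h x.val x.isLt with h' | h'
  · rw [NB, mem_msk, h'] at hx; cases hx
  rw [show matOf (gT k) = toMat eI (genB k) from coe_gen0 k, toMat_mulVec (genB_eq k).2.2]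
  rw [show Fin.ofNat 4 k.val = k from Fin.ext (Nat.mod_eq_of_lt k.isLt)] at h'
  rw [h', show (imgL k).1 x = _ from app' (okL_18 (hi k.val k.isLt)) x, val_pt hE.1]

theorem graph_mul {a b : T2} {l m : L} (hl : (a, l) ∈ graph) (hm : (b, m) ∈ graph) :
    (a * b, l * m) ∈ graph := by
  have h := mul_mem hl hm
  rw [Prod.mk_mul_mk] at h
  exact h

theorem graph_one : ((1 : T2), (1 : L)) ∈ graph := by
  have h := graph.one_mem
  rw [Prod.one_eq_mk] at h
  exact h

theorem graph_inv {a : T2} {l : L} (hl : (a, l) ∈ graph) : (a⁻¹, l⁻¹) ∈ graph := by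
  have h := inv_mem hl
  rw [Prod.inv_mk] at h
  exact h

theorem exists_right (t : T2) : ∃ l, (t, l) ∈ graph := by
  have : t ∈ Subgroup.closure (Set.range gT) := gen_top ▸ Subgroup.mem_top t
  induction this using Subgroup.closure_induction with
  | mem y hy => obtain ⟨k, rfl⟩ := hy; exact ⟨_, gen_graph k⟩
  | one => exact ⟨1, graph_one⟩
  | mul a b _ _ ha hb =>
    obtain ⟨l, hl⟩ := ha; obtain ⟨m, hm⟩ := hb
    exact ⟨l * m, graph_mul hl hm⟩
  | inv a _ ha => obtain ⟨l, hl⟩ := ha; exact ⟨l⁻¹, graph_inv hl⟩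

theorem exists_pre : ∀ s : List ℕ, (∀ x ∈ s, x < 8) → ∃ p : T2 × L, p ∈ graph ∧ p.2.1 = w (preWord s)
  | [], _ => ⟨1, graph.one_mem, by rw [show preWord [] = [] from rfl, w_nil]; rfl⟩
  | x :: s, h => by
    obtain ⟨p, hp, he⟩ := exists_pre s fun y hy => h y (List.mem_cons_of_mem _ hy)
    have hx := h x List.mem_cons_self
    have e : preWord (x :: s) = (if x < 4 then imgT.getD x [] else winv (imgT.getD (x - 4) [])) ++ preWord s := by
      simp [preWord]
    rw [e, w_append]
    by_cases h4 : x < 4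
    · refine ⟨(gT ⟨x, h4⟩, imgL ⟨x, h4⟩) * p, graph.mul_mem (gen_graph _) hp, ?_⟩
      rw [if_pos h4, ← he]; rfl
    · refine ⟨(gT ⟨x - 4, by omega⟩, imgL ⟨x - 4, by omega⟩)⁻¹ * p,
        graph.mul_mem (graph.inv_mem (gen_graph _)) hp, ?_⟩
      have hi := imgT_ok
      simp only [List.all_eq_true, List.mem_range] at hi
      rw [if_neg h4, w_winv (okL_18 (hi _ (by omega))), ← he]
      rfl

theorem exists_left (l : L) : ∃ t, (t, l) ∈ graph := by
  suffices ∀ g ∈ L, ∃ p ∈ graph, p.2.1 = g by
    obtain ⟨⟨t, m⟩, hp, e⟩ := this l.1 l.2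
    exact ⟨t, (Subtype.ext e : m = l) ▸ hp⟩
  intro g hg
  refine L_induction (p := fun g => ∃ p ∈ graph, p.2.1 = g) ⟨1, graph.one_mem, rfl⟩ (fun k hk => ?_)
    (fun a b ha hb => ?_) hg
  · have h := preT_ok
    simp only [List.all_eq_true, List.mem_range, Bool.and_eq_true, Nat.blt_eq] at h
    obtain ⟨hs, hlt⟩ := h k hk
    obtain ⟨p, hp, e⟩ := exists_pre _ hlt
    refine ⟨p, hp, e.trans ((same_spec hs).2.2.trans ?_)⟩
    rw [w_cons, w_nil, mul_one]
  · obtain ⟨p, hp, rfl⟩ := ha; obtain ⟨q, hq, rfl⟩ := hb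
    exact ⟨p * q, graph.mul_mem hp hq, rfl⟩

theorem vec52_inj {a b : ℕ} (ha : a < 2 ^ 52) (hb : b < 2 ^ 52) (h : vec52 a = vec52 b) : a = b := by
  refine Nat.eq_of_testBit_eq fun i => ?_
  by_cases hi : i < 52
  · have h1 := congrFun h (eI.symm ⟨i, hi⟩)
    simp only [vec52, Equiv.apply_symm_apply, bitVal] at h1
    revert h1
    cases a.testBit i <;> cases b.testBit i <;> simp
  · have : 2 ^ 52 ≤ 2 ^ i := Nat.pow_le_pow_right (by norm_num) (by omega)
    rw [Nat.testBit_eq_false_of_lt (by omega), Nat.testBit_eq_false_of_lt (by omega)]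

theorem vv_inj {x y : Pt} (hx : x ∈ NB) (hy : y ∈ NB) (h : vec52 (vv x.val) = vec52 (vv y.val)) : x = y := by
  obtain ⟨g, hg, rfl⟩ := exists_NB hx
  obtain ⟨t, ht⟩ := exists_left ⟨g, hg⟩⁻¹
  have e1 := ht _ hx
  have e2 := ht _ hy
  rw [h, e2] at e1
  change vec52 (vv (g.symm y).val) = vec52 (vv (g.symm (g (pt 20))).val) at e1
  rw [Equiv.symm_apply_apply, val_pt (show 20 < 4060 by norm_num)] at e1
  have hy' : g.symm y ∈ NB := (mem_NB_smul hg _).1 (by rwa [g.apply_symm_apply])
  have hs := vv_sep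
  simp only [List.all_eq_true, List.mem_range, Bool.or_eq_true, Bool.not_eq_true', Bool.and_eq_true,
    Nat.blt_eq] at hs
  rcases hs (g.symm y).val (g.symm y).isLt with (h' | h') | ⟨⟨h', hb⟩, hb'⟩
  · rw [NB, mem_msk, h'] at hy'; cases hy'
  · rw [show pt 20 = g.symm y by rw [← Nat.eq_of_beq_eq_true h', pt_val], g.apply_symm_apply]
  · rw [vec52_inj hb hb' e1, Nat.beq_refl] at h'; cases h'

theorem right_unique {t : T2} {l m : L} (hl : (t, l) ∈ graph) (hm : (t, m) ∈ graph) : l = m := by
  classical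
  have key : ∀ x ∈ NB, l.1 x = m.1 x := fun x hx =>
    vv_inj ((mem_NB_smul l.2 x).2 hx) ((mem_NB_smul m.2 x).2 hx) ((hl x hx).symm.trans (hm x hx))
  refine Subtype.ext (Equiv.ext fun z => ?_)
  rcases cases_pt z with rfl | hz | hz
  · rw [L_fix_zero l.2, L_fix_zero m.2]
  · exact key z hz
  · refine star_inj ((mem_FAR_smul l.2 z).2 hz) ((mem_FAR_smul m.2 z).2 hz) ?_
    ext u
    rw [← l.1.apply_symm_apply u, star_smul l.2]
    have hu : ∀ v, v ∈ star' z → l.1 v = m.1 v := fun v hv => key v (mem_star.1 hv).1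
    constructor
    · intro h
      rw [hu _ h]; exact (star_smul m.2 _ _).2 h
    · intro h
      have hN : l.1.symm u ∈ NB := (mem_NB_smul l.2 _).1 (mem_star.1 h).1
      rw [key _ hN] at h
      exact (star_smul m.2 _ _).1 h

/-- The stabiliser of a line is isomorphic to the Ree group. -/
theorem nonempty_equiv : Nonempty (L ≃* T2) := by
  classical
  let θ : T2 →* L := MonoidHom.mk' (fun t => (exists_right t).choose) fun s t =>
    right_unique (exists_right (s * t)).choose_spec
      (graph_mul (exists_right s).choose_spec (exists_right t).choose_spec)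
  have hs : Function.Surjective θ := fun l => by
    obtain ⟨t, ht⟩ := exists_left l
    exact ⟨t, right_unique (exists_right t).choose_spec ht⟩
  have hb : Function.Bijective θ :=
    hs.bijective_of_nat_card_le (by rw [card_T2, natCard_stabG])
  exact ⟨(MulEquiv.ofBijective θ hb).symm⟩

end Cfsg.Agent.RuRankThree
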