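import Cfsg.Agent.Lib.RuRankThree.Far

/-!
# The Sylow 5-subgroups of the stabiliser of a far line

* `exists_conjugator` : each contains one of the twenty-six conjugate pairs of generators
-/

set_option autoImplicit false
set_option maxRecDepth 100000

namespace Cfsg.Agent.RuRankThree

open Cfsg.Agent.StabCert Cfsg.Agent.RuPerm MulAction

attribute [local irreducible] nbM farM tW aW bW tCert kGens

theorem ab_spec : okL aW = true ∧ okL bW = true ∧ w aW ∈ stL (pt 1) ∧ w bW ∈ stL (pt 1) ∧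
    Commute (w aW) (w bW) ∧ w aW ^ 5 = 1 ∧ w bW ^ 5 = 1 ∧
    Function.Injective (fun i : Fin 25 => w aW ^ (i.val / 5) * w bW ^ (i.val % 5)) := by
  have h := ab_ok
  simp only [Bool.and_eq_true, Nat.beq_eq, decide_eq_true_eq] at h
  obtain ⟨⟨⟨⟨⟨⟨⟨⟨⟨hab, ha5⟩, hb5⟩, ha1⟩, hb1⟩, hnd⟩, -⟩, -⟩, -⟩, -⟩ := h
  obtain ⟨hab1, -, habe⟩ := same_spec hab
  have hok : okL aW = true ∧ okL bW = true := by
    simp only [okL, List.all_append, Bool.and_eq_true] at hab1 ⊢
    exact hab1
  rw [w_append, w_append] at habe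
  have h5 : ∀ l, same (List.replicate 5 l).flatten [] = true → w l ^ 5 = 1 := fun l h => by
    have := (same_spec h).2.2
    rwa [w_replicate, w_nil] at this
  refine ⟨hok.1, hok.2, ⟨w_mem hok.1, ?_⟩, ⟨w_mem hok.2, ?_⟩, habe, h5 _ ha5, h5 _ hb5, ?_⟩
  · show w aW (pt 1) = pt 1
    rw [(app (okL_18 hok.1) (by norm_num)).2, ha1]
  · show w bW (pt 1) = pt 1
    rw [(app (okL_18 hok.2) (by norm_num)).2, hb1]
  intro i j e
  refine Fin.ext ((List.Nodup.getElem_inj_iff hnd (hi := by simpa using i.isLt) (hj := by simpa using j.isLt)).1 ?_)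
  simp only [List.getElem_map, List.getElem_range]
  refine List.map_congr_left fun β hβ => ?_
  have ok : ∀ n m, ok18 ((List.replicate n aW).flatten ++ (List.replicate m bW).flatten) = true := fun n m => by
    simp only [ok18, List.all_eq_true, List.mem_append, List.mem_flatten, List.mem_replicate]
    rintro k (⟨l, ⟨-, rfl⟩, hk⟩ | ⟨l, ⟨-, rfl⟩, hk⟩)
    · exact List.all_eq_true.1 (okL_18 hok.1) k hk
    · exact List.all_eq_true.1 (okL_18 hok.2) k hk
  have a1 := app (ok (i.val / 5) (i.val % 5)) (detPts_lt β hβ)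
  have a2 := app (ok (j.val / 5) (j.val % 5)) (detPts_lt β hβ)
  have := congrArg (fun g : Equiv.Perm Pt => (g (pt β)).val) e
  simp only [← w_replicate, ← w_append, a1.2, a2.2, val_pt a1.1, val_pt a2.1] at this
  exact this

/-- The Sylow 5-subgroup. -/
theorem exists_PFive : ∃ P : Subgroup (Equiv.Perm Pt), P ≤ stL (pt 1) ∧ Nat.card P = 25 ∧
    w aW ∈ P ∧ w bW ∈ P := by
  obtain ⟨-, -, ha, hb, hc, ha5, hb5, hinj⟩ := ab_spec
  let φ := MonoidHom.noncommCoprod (Subgroup.zpowers (w aW)).subtype (Subgroup.zpowers (w bW)).subtype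
    (fun x y => by
      obtain ⟨n, hn⟩ := Subgroup.mem_zpowers_iff.1 x.2
      obtain ⟨m, hm⟩ := Subgroup.mem_zpowers_iff.1 y.2
      show Commute x.1 y.1
      rw [← hn, ← hm]
      exact (hc.zpow_zpow n m))
  have hA : w aW ∈ φ.range := ⟨(⟨_, Subgroup.mem_zpowers _⟩, 1), by simp [φ]⟩
  have hB : w bW ∈ φ.range := ⟨(1, ⟨_, Subgroup.mem_zpowers _⟩), by simp [φ]⟩
  refine ⟨φ.range, ?_, le_antisymm ?_ ?_, hA, hB⟩
  · rintro _ ⟨⟨⟨x, hx⟩, ⟨y, hy⟩⟩, rfl⟩
    simp only [φ, MonoidHom.noncommCoprod_apply, Subgroup.coe_subtype]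
    exact mul_mem ((Subgroup.zpowers_le.2 ha) hx) ((Subgroup.zpowers_le.2 hb) hy)
  · refine (Nat.card_le_card_of_surjective φ.rangeRestrict φ.rangeRestrict_surjective).trans ?_
    rw [Nat.card_prod, Nat.card_zpowers, Nat.card_zpowers]
    exact Nat.mul_le_mul (orderOf_le_of_pow_eq_one (n := 5) (by norm_num) ha5)
      (orderOf_le_of_pow_eq_one (n := 5) (by norm_num) hb5) |>.trans (by norm_num)
  · have := Nat.card_le_card_of_injective
      (fun i : Fin 25 => (⟨_, mul_mem (pow_mem hA (i.val / 5)) (pow_mem hB (i.val % 5))⟩ : φ.range))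
      (fun i j e => hinj (congrArg Subtype.val e))
    rwa [Nat.card_fin] at this

theorem tW_ok (i : ℕ) : okL (tW.getD i []) = true := by
  have h := ab_ok
  simp only [Bool.and_eq_true, List.all_eq_true] at h
  by_cases hi : i < tW.length
  · rw [List.getD_eq_getElem _ _ hi]; exact h.1.1.2 _ (List.getElem_mem hi)
  · rw [List.getD_eq_default _ _ (by omega)]; rfl

/-- The two conjugated generators lie in a subgroup. -/
def HasP (i : ℕ) (P : Subgroup (Equiv.Perm Pt)) : Prop :=
  w (tW.getD i []) * w aW * (w (tW.getD i []))⁻¹ ∈ P ∧ w (tW.getD i []) * w bW * (w (tW.getD i []))⁻¹ ∈ P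

/-- A Sylow 5-subgroup of the stabiliser of a far line contains one of the twenty-six pairs. -/
theorem exists_conjugator {P : Subgroup (Equiv.Perm Pt)} (hP : P ≤ stL (pt 1)) (hc : Nat.card P = 25) :
    ∃ i < 26, HasP i P := by
  classical
  haveI : Fact (Nat.Prime 5) := ⟨by norm_num⟩
  obtain ⟨hoa, hob, -⟩ := ab_spec
  obtain ⟨P0, hP0, hc0, hA, hB⟩ := exists_PFive
  set G := stL (pt 1) with hG
  have hf : ∀ R : Subgroup (Equiv.Perm Pt), R ≤ G → Nat.card R = 25 →
      Nat.card (R.subgroupOf G) = 5 ^ (Nat.card G).factorization 5 := fun R hR h25 => by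
    rw [Nat.card_congr (Subgroup.subgroupOfEquivOfLe hR).toEquiv, h25, hG, card_stL_one,
      show (15600 : ℕ) = 5 ^ 2 * 624 by norm_num, Nat.factorization_mul_apply_of_coprime (by norm_num),
      Nat.Prime.factorization_pow (by norm_num), Nat.factorization_eq_zero_of_not_dvd (show ¬ 5 ∣ 624 by norm_num)]
    simp
  obtain ⟨g, hg⟩ := MulAction.exists_smul_eq G (Sylow.ofCard _ (hf P0 hP0 hc0)) (Sylow.ofCard _ (hf P hP hc))
  have hgP : P0.map (MulAut.conj g.1).toMonoidHom ≤ P := by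
    rintro _ ⟨x, hx, rfl⟩
    have e : (Sylow.ofCard _ (hf P0 hP0 hc0)).map (MulAut.conj g).toMonoidHom =
        (Sylow.ofCard _ (hf P hP hc) : Subgroup G) := by rw [← hg]; rfl
    exact (e.le ⟨⟨x, hP0 hx⟩, hx, rfl⟩ : (MulAut.conj g ⟨x, hP0 hx⟩ : G) ∈ P.subgroupOf G)
  suffices key : ∀ g ∈ KOne, ∃ i < 26, HasP i (P0.map (MulAut.conj g).toMonoidHom) by
    obtain ⟨i, hi, h1, h2⟩ := key g.1 (KOne_eq.symm ▸ g.2)
    exact ⟨i, hi, hgP h1, hgP h2⟩
  intro g hg
  rw [KOne, ← Subgroup.mem_toSubmonoid, Subgroup.closure_toSubmonoid_of_finite] at hg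
  induction hg using Submonoid.closure_induction_left with
  | one =>
    have h := ab_ok
    simp only [Bool.and_eq_true, List.isEmpty_iff] at h
    have e : tW.getD 0 [] = [] := by
      have h0 := h.2
      by_cases hl : 0 < tW.length
      · rw [List.getD_eq_getElem _ _ hl] at h0 ⊢; exact h0
      · rw [List.getD_eq_default _ _ (by omega)]
    exact ⟨0, by norm_num, ⟨w aW, hA, by rw [e]; simp [w_nil]⟩, ⟨w bW, hB, by rw [e]; simp [w_nil]⟩⟩
  | mul_left x hx y _ ih =>
    obtain ⟨l, hl, rfl⟩ := hx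
    obtain ⟨i, hi, hi1, hi2⟩ := ih
    obtain ⟨k, hk, rfl⟩ := List.mem_iff_getElem.1 hl
    have hk2 : k < 2 := lt_of_lt_of_le hk (by
      have : kGens.length ≤ 2 := by decide +kernel
      exact this)
    have hc := tCert_ok
    simp only [List.all_eq_true, List.mem_range, Bool.and_eq_true, Nat.blt_eq] at hc
    obtain ⟨⟨hj, s1⟩, s2⟩ := hc k hk2 i hi
    set e := (tCert.getD k []).getD i (0, (0, 0), (0, 0)) with he
    have hkG : kGens.getD k [] = kGens[k] := List.getD_eq_getElem _ _ hk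
    have hko := (kGens_spec _ (List.getElem_mem hk)).1
    have hv : ok18 (kGens.getD k [] ++ tW.getD i []) = true := by
      simp only [ok18, List.all_append, Bool.and_eq_true]
      exact ⟨hkG ▸ okL_18 hko, okL_18 (tW_ok i)⟩
    set Q := P0.map (MulAut.conj (w kGens[k] * y)).toMonoidHom with hQ
    set ti := w (tW.getD i [])
    have hconj : ∀ z, z ∈ P0.map (MulAut.conj y).toMonoidHom → w kGens[k] * z * (w kGens[k])⁻¹ ∈ Q := by
      rintro _ ⟨u, hu, rfl⟩
      refine ⟨u, hu, ?_⟩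
      simp only [MulEquiv.coe_toMonoidHom, MulAut.conj_apply]
      group
    have hS : ∀ u v : ℕ, w (kGens.getD k [] ++ tW.getD i []) * (w aW ^ u * w bW ^ v) *
        (w (kGens.getD k [] ++ tW.getD i []))⁻¹ ∈ Q := fun u v => by
      rw [w_append, hkG]
      have h := hconj _ (mul_mem (pow_mem hi1 u) (pow_mem hi2 v))
      rw [conj_pow, conj_pow] at h
      convert h using 1
      simp only [ti]
      group
    refine ⟨e.1, hj, ?_, ?_⟩
    · have h := (same_spec s1).2.2
      simp only [w_append, w_winv (okL_18 (tW_ok _)), w_winv hv, w_replicate] at h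
      rw [h]
      simpa only [w_append] using hS e.2.1.1 e.2.1.2
    · have h := (same_spec s2).2.2
      simp only [w_append, w_winv (okL_18 (tW_ok _)), w_winv hv, w_replicate] at h
      rw [h]
      simpa only [w_append] using hS e.2.2.1 e.2.2.2

end Cfsg.Agent.RuRankThree
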